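import Cfsg.Agent.Lib.Schur.Basic
import Cfsg.Agent.KnownSimple.Multiplier.Sylow

/-!
Local tools for Schur multipliers: derived subgroups of preimages in central extensions.
-/

set_option autoImplicit false

namespace Cfsg.Agent.Golay.Mult

open Subgroup
open scoped commutatorElement

universe u v

variable {Γ : Type u} [Group Γ] {G : Type v} [Group G]

theorem commutatorElement_mul_left (x y v : Γ) : ⁅x * y, v⁆ = x * ⁅y, v⁆ * x⁻¹ * ⁅x, v⁆ := by
  simp only [commutatorElement_def]; group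

theorem commutatorElement_inv_left (x v : Γ) : ⁅x⁻¹, v⁆ = x⁻¹ * ⁅x, v⁆⁻¹ * x := by
  simp only [commutatorElement_def]; group

/-- The derived subgroup of a generated subgroup lies in any normalised subgroup containing the
commutators of the generators. -/
theorem commutator_closure_le (U : Set Γ) (N : Subgroup Γ)
    (hn : ∀ u ∈ U, ∀ n, n ∈ N ↔ u * n * u⁻¹ ∈ N) (hc : ∀ u ∈ U, ∀ v ∈ U, ⁅u, v⁆ ∈ N) :
    ⁅closure U, closure U⁆ ≤ N := by
  have hN : closure U ≤ normalizer (N : Set Γ) :=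
    (closure_le _).2 fun u hu => mem_normalizer_iff.2 (hn u hu)
  have left : ∀ v : Γ, (∀ u ∈ U, ⁅u, v⁆ ∈ N) → ∀ x ∈ closure U, ⁅x, v⁆ ∈ N := by
    intro v hv x hx
    induction hx using closure_induction with
    | mem u hu => exact hv u hu
    | one => simp
    | mul x y hx hy ihx ihy =>
      rw [commutatorElement_mul_left]
      exact mul_mem ((mem_normalizer_iff.1 (hN hx) _).1 ihy) ihx
    | inv x hx ih =>
      rw [commutatorElement_inv_left]
      exact (mem_normalizer_iff''.1 (hN hx) _).1 (inv_mem ih)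
  rw [commutator_le]
  intro x hx y hy
  refine left y (fun u hu => ?_) x hx
  have h := inv_mem (left u (fun w hw => hc w hw u hu) y hy)
  rwa [commutatorElement_inv] at h

theorem closure_sup_ker_eq_comap (σ : Γ →* G) (T : Set G) (hσ : Function.Surjective σ) :
    closure (σ ⁻¹' T ∪ (σ.ker : Set Γ)) = (closure T).comap σ := by
  rw [← Set.image_preimage_eq T hσ, ← MonoidHom.map_closure, comap_map_eq, Subgroup.closure_union,
    Subgroup.closure_eq, Set.image_preimage_eq T hσ]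

section Central

variable (σ : Γ →* G)

theorem comm_congr (hc : σ.ker ≤ center Γ) {x y x' y' : Γ} (hx : σ x = σ x') (hy : σ y = σ y') :
    ⁅x, y⁆ = ⁅x', y'⁆ := by
  have h1 : x'⁻¹ * x ∈ center Γ := hc (by simp [MonoidHom.mem_ker, hx])
  have h2 : y'⁻¹ * y ∈ center Γ := hc (by simp [MonoidHom.mem_ker, hy])
  simpa using Cfsg.Agent.Schur.commutatorElement_mul_central h1 h2 x' y'

theorem comm_conj (hc : σ.ker ≤ center Γ) {x y x' y' g : Γ}
    (hx : σ g * σ x * (σ g)⁻¹ = σ x') (hy : σ g * σ y * (σ g)⁻¹ = σ y') :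
    g * ⁅x, y⁆ * g⁻¹ = ⁅x', y'⁆ := by
  rw [show g * ⁅x, y⁆ * g⁻¹ = ⁅g * x * g⁻¹, g * y * g⁻¹⁆ by
    simp only [commutatorElement_def]; group]
  exact comm_congr σ hc (by simp [hx]) (by simp [hy])

/-- If `x` is a commutator of elements centralising `y`, the lifts of `x` and `y` commute. -/
theorem comm_of_commutator (hc : σ.ker ≤ center Γ) {x y a b : Γ} (hx : σ x = ⁅σ a, σ b⁆)
    (ha : σ y * σ a * (σ y)⁻¹ = σ a) (hb : σ y * σ b * (σ y)⁻¹ = σ b) : ⁅x, y⁆ = 1 := by
  rw [comm_congr σ hc (x' := ⁅a, b⁆) (y' := y) (by rw [hx, map_commutatorElement]) rfl,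
    ← commutatorElement_inv, inv_eq_one, commutatorElement_def y,
    show y * ⁅a, b⁆ * y⁻¹ = ⁅a, b⁆ from comm_conj σ hc ha hb, mul_inv_cancel]

/-- Commuting elements of odd order whose pair is moved to `(x, y⁻¹)` have commuting lifts. -/
theorem comm_of_inverting (hc : σ.ker ≤ center Γ) {x y g : Γ} {n : ℕ} (hn : Odd n)
    (hxn : σ x ^ n = 1) (hxy : σ x * σ y = σ y * σ x) (hgx : σ g * σ x * (σ g)⁻¹ = σ x)
    (hgy : σ g * σ y * (σ g)⁻¹ = (σ y)⁻¹) : ⁅x, y⁆ = 1 := by
  have hk : ⁅x, y⁆ ∈ σ.ker := by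
    rw [MonoidHom.mem_ker, map_commutatorElement, commutatorElement_eq_one_iff_mul_comm, hxy]
  have hz := Subgroup.mem_center_iff.1 (hc hk)
  have h2 : ⁅x, y⁆ = ⁅x, y⁆⁻¹ := by
    calc ⁅x, y⁆ = g * ⁅x, y⁆ * g⁻¹ := by rw [hz g, mul_inv_cancel_right]
      _ = ⁅x, y⁻¹⁆ := comm_conj σ hc hgx (by rw [hgy, map_inv])
      _ = y⁻¹ * ⁅x, y⁆⁻¹ * y := by simp only [commutatorElement_def]; group
      _ = ⁅x, y⁆⁻¹ := by
        rw [Subgroup.mem_center_iff.1 (inv_mem (hc hk)) y⁻¹, inv_mul_cancel_right]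
  have hpow : ∀ k : ℕ, ⁅x ^ k, y⁆ = ⁅x, y⁆ ^ k := by
    intro k
    induction k with
    | zero => simp
    | succ k ih =>
      rw [pow_succ', commutatorElement_mul_left, ih, Subgroup.mem_center_iff.1 (pow_mem (hc hk) k) x,
        mul_inv_cancel_right, pow_succ]
  have hcn : ⁅x, y⁆ ^ n = 1 := by
    rw [← hpow, comm_congr σ hc (x' := 1) (y' := y) (by rw [map_pow, hxn, map_one]) rfl]
    simp
  obtain ⟨m, rfl⟩ := hn
  have hc2 : ⁅x, y⁆ ^ 2 = 1 := by
    rw [pow_two]
    nth_rw 2 [h2]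
    exact mul_inv_cancel _
  rwa [pow_succ, pow_mul, hc2, one_pow, one_mul] at hcn

/-- A generated subgroup whose generators have pairwise commuting lifts. -/
theorem inf_commutator_eq_bot_of_gens (hσ : Function.Surjective σ) (hc : σ.ker ≤ center Γ)
    (T : Set G) (h : ∀ x y : Γ, σ x ∈ T → σ y ∈ T → ⁅x, y⁆ = 1) :
    σ.ker ⊓ ⁅(closure T).comap σ, (closure T).comap σ⁆ = ⊥ := by
  rw [eq_bot_iff]
  refine inf_le_right.trans ?_
  rw [← closure_sup_ker_eq_comap σ T hσ]
  refine commutator_closure_le _ ⊥ (fun u _ n => by simp) fun u hu v hv => ?_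
  rw [Subgroup.mem_bot]
  rcases hu with hu | hu
  · rcases hv with hv | hv
    · exact h u v hu hv
    · exact commutatorElement_eq_one_iff_mul_comm.2 (Subgroup.mem_center_iff.1 (hc hv) u)
  · exact commutatorElement_eq_one_iff_mul_comm.2 (Subgroup.mem_center_iff.1 (hc hu) v).symm

/-- A semidihedral subgroup: the kernel meets the derived subgroup of the preimage trivially. -/
theorem inf_commutator_eq_bot_of_semidihedral (hσ : Function.Surjective σ) (hc : σ.ker ≤ center Γ)
    {r s : G} (hr : r ^ 8 = 1) (hr4 : r ^ 4 ≠ 1) (hs : s * s = 1) (hsr : s * r * s⁻¹ = r ^ 3) :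
    σ.ker ⊓ ⁅(closure {r, s}).comap σ, (closure {r, s}).comap σ⁆ = ⊥ := by
  obtain ⟨t, rfl⟩ := hσ r
  obtain ⟨u, rfl⟩ := hσ s
  set z := (t ^ 3)⁻¹ * (u * t * u⁻¹) with hz
  have hzk : z ∈ σ.ker := by
    rw [MonoidHom.mem_ker, hz, map_mul, map_inv, map_pow, map_mul, map_mul, map_inv, hsr,
      inv_mul_cancel]
  have hzc := hc hzk
  have hzC : ∀ g : Γ, Commute z g := fun g => (Subgroup.mem_center_iff.1 hzc g).symm
  have hutu : u * t * u⁻¹ = t ^ 3 * z := by rw [hz, mul_inv_cancel_left]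
  clear_value z
  set w := t ^ 2 * z with hw
  have hwu : u * w * u⁻¹ = w ^ 3 := by
    rw [hw, ← conj_mul, ← conj_pow, hutu, Subgroup.mem_center_iff.1 hzc u, mul_inv_cancel_right,
      ((hzC (t ^ 3)).symm).mul_pow, (hzC (t ^ 2)).symm.mul_pow, ← pow_mul, ← pow_mul, mul_assoc,
      ← pow_succ]
  have hw4 : w ^ 4 = 1 := by
    have huu : σ (u * u) = 1 := by rw [map_mul, hs]
    have h1 : u * (u * t * u⁻¹) * u⁻¹ = t := by
      calc u * (u * t * u⁻¹) * u⁻¹ = (u * u) * t * (u * u)⁻¹ := by group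
        _ = t := by
          rw [← Subgroup.mem_center_iff.1 (hc (MonoidHom.mem_ker.2 huu)) t, mul_inv_cancel_right]
    rw [hutu, ← conj_mul, ← conj_pow, hutu, Subgroup.mem_center_iff.1 hzc u, mul_inv_cancel_right,
      (hzC (t ^ 3)).symm.mul_pow, ← pow_mul, mul_assoc, ← pow_succ] at h1
    rw [hw, (hzC (t ^ 2)).symm.mul_pow, ← pow_mul]
    calc t ^ (2 * 4) * z ^ 4 = t⁻¹ * (t ^ (3 * 3) * z ^ (3 + 1)) := by group
      _ = 1 := by rw [h1, inv_mul_cancel]
  have hnt : ∀ n, n ∈ zpowers w ↔ t * n * t⁻¹ ∈ zpowers w := by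
    have htw : Commute t w := ((Commute.refl t).pow_right 2).mul_right (hzC t).symm
    intro n
    constructor
    · rintro ⟨k, rfl⟩
      exact ⟨k, by rw [(htw.zpow_right k).eq, mul_inv_cancel_right]⟩
    · rintro ⟨k, hk⟩
      refine ⟨k, ?_⟩
      dsimp only at hk ⊢
      calc w ^ k = t⁻¹ * (t * w ^ k) := by group
        _ = t⁻¹ * (w ^ k * t) := by rw [(htw.zpow_right k).eq]
        _ = n := by rw [hk]; group
  have hnu : ∀ n, n ∈ zpowers w ↔ u * n * u⁻¹ ∈ zpowers w := by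
    have h9 : (w ^ 3) ^ 3 = w := by
      rw [← pow_mul, show 3 * 3 = 4 * 2 + 1 by norm_num, pow_succ, pow_mul, hw4, one_pow, one_mul]
    intro n
    constructor
    · rintro ⟨k, rfl⟩
      dsimp only
      rw [← conj_zpow, hwu]
      exact zpow_mem (pow_mem (mem_zpowers w) 3) k
    · rintro ⟨k, hk⟩
      dsimp only at hk
      have h : u * ((w ^ 3) ^ k) * u⁻¹ = w ^ k := by
        rw [← conj_zpow, ← conj_pow, hwu, h9]
      rw [hk] at h
      rw [← mul_left_cancel (mul_right_cancel h)]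
      exact zpow_mem (pow_mem (mem_zpowers w) 3) k
  have hle : ⁅(closure {σ t, σ u}).comap σ, (closure {σ t, σ u}).comap σ⁆ ≤ zpowers w := by
    have hcl : (closure {σ t, σ u}).comap σ = closure ({t, u} ∪ (σ.ker : Set Γ)) := by
      rw [show ({σ t, σ u} : Set G) = σ '' {t, u} by simp [Set.image_pair], ← MonoidHom.map_closure,
        comap_map_eq, Subgroup.closure_union, Subgroup.closure_eq]
    rw [hcl]
    refine commutator_closure_le _ _ (fun g hg n => ?_) fun g hg g' hg' => ?_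
    · rcases hg with (rfl | rfl) | hg
      · exact hnt n
      · exact hnu n
      · rw [(Subgroup.mem_center_iff.1 (hc hg) n).symm, mul_inv_cancel_right]
    · have hut : ⁅u, t⁆ ∈ zpowers w := by
        rw [commutatorElement_def, hutu, show t ^ 3 * z * t⁻¹ = t ^ 2 * (t * z * t⁻¹) by group,
          Subgroup.mem_center_iff.1 hzc t, mul_inv_cancel_right]
        exact mem_zpowers w
      rcases hg with (rfl | rfl) | hg
      · rcases hg' with (rfl | rfl) | hg'
        · simp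
        · rw [← commutatorElement_inv]; exact inv_mem hut
        · rw [commutatorElement_eq_one_iff_mul_comm.2 (Subgroup.mem_center_iff.1 (hc hg') _)]
          exact one_mem _
      · rcases hg' with (rfl | rfl) | hg'
        · exact hut
        · simp
        · rw [commutatorElement_eq_one_iff_mul_comm.2 (Subgroup.mem_center_iff.1 (hc hg') _)]
          exact one_mem _
      · rw [commutatorElement_eq_one_iff_mul_comm.2 (Subgroup.mem_center_iff.1 (hc hg) g').symm]
        exact one_mem _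
  rw [eq_bot_iff]
  rintro x ⟨hx, hx'⟩
  obtain ⟨k, rfl⟩ := hle hx'
  have hx1 : σ (w ^ k) = 1 := hx
  rw [map_zpow, hw, map_mul, MonoidHom.mem_ker.1 hzk, mul_one, map_pow, ← zpow_natCast, ← zpow_mul,
    ← orderOf_dvd_iff_zpow_eq_one] at hx1
  have : Fact (Nat.Prime 2) := ⟨Nat.prime_two⟩
  have h8 : orderOf (σ t) = 2 ^ (2 + 1) := orderOf_eq_prime_pow (by simpa using hr4) (by simpa using hr)
  rw [h8] at hx1
  obtain ⟨j, hj⟩ := hx1
  have hkj : k = 4 * j := by push_cast at hj; linarith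
  rw [Subgroup.mem_bot]
  show w ^ k = 1
  rw [hkj, zpow_mul, show ((4 : ℤ) = ((4 : ℕ) : ℤ)) from rfl, zpow_natCast, hw4, one_zpow]

end Central

end Cfsg.Agent.Golay.Mult
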