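import Cfsg.Agent.Lib.Golay.M12
import Cfsg.Agent.Lib.Golay.Mult.Local

/-!
Subgroups given by tables, inside a subgroup of the permutations of the 24 points.
-/

set_option autoImplicit false

namespace Cfsg.Agent.Golay.Mult

open Subgroup
open scoped commutatorElement

variable {H : Subgroup (Equiv.Perm GolayPt)}

theorem eq_of_tab {x y : H} {l : List ℕ} (hx : Tab x.1 l) (hy : Tab y.1 l) : x = y :=
  Subtype.ext (tab_unique hx hy)

theorem eq_one_of_tab {x : H} (hx : Tab x.1 idTab) : x = 1 := eq_of_tab hx tab_one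

theorem tab_coe_mul {x y : H} {a b : List ℕ} (hx : Tab x.1 a) (hy : Tab y.1 b) :
    Tab (x * y).1 (comp a b) := hx.mul hy

theorem tab_coe_pow {x : H} {a : List ℕ} (hx : Tab x.1 a) (n : ℕ) :
    Tab (x ^ n).1 (powTab a n) := by
  rw [SubmonoidClass.coe_pow]
  exact hx.pow n

theorem eq_inv_of_tab {x y : H} {a b : List ℕ} (hx : Tab x.1 a) (hy : Tab y.1 b)
    (h : comp a b = idTab) : y = x⁻¹ :=
  (inv_eq_of_mul_eq_one_right (eq_one_of_tab (h ▸ tab_coe_mul hx hy))).symm

theorem tab_getD_eq {x : H} {a b : List ℕ} (hx : Tab x.1 a) (hy : Tab x.1 b) (la : a.length = 24)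
    (lb : b.length = 24) : a = b := by
  refine List.ext_getElem (la.trans lb.symm) fun i h1 h2 => ?_
  have hi : i < 24 := la ▸ h1
  have := (hx i hi).symm.trans (hy i hi)
  rwa [List.getD_eq_getElem _ _ h1, List.getD_eq_getElem _ _ h2] at this

/-- The products `t₁^e₁ * t₂^e₂ * ⋯` with exponents 0 or 1. -/
def allProd : List (List ℕ) → List (List ℕ)
  | [] => [idTab]
  | t :: ts => allProd ts ++ (allProd ts).map (comp t)

theorem allProd_mem (K : Subgroup H) :
    ∀ T : List (List ℕ), (∀ t ∈ T, ∃ g ∈ K, Tab g.1 t) → ∀ e ∈ allProd T, ∃ g ∈ K, Tab g.1 e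
  | [], _, e, he => by
    rw [allProd, List.mem_singleton] at he
    exact ⟨1, K.one_mem, he ▸ tab_one⟩
  | t :: ts, h, e, he => by
    rw [allProd, List.mem_append, List.mem_map] at he
    have ih := allProd_mem K ts fun t' ht' => h t' (List.mem_cons_of_mem _ ht')
    rcases he with he | ⟨e', he', rfl⟩
    · exact ih e he
    · obtain ⟨g, hg, hgt⟩ := h t List.mem_cons_self
      obtain ⟨g', hg', hgt'⟩ := ih e' he'
      exact ⟨g * g', K.mul_mem hg hg', tab_coe_mul hgt hgt'⟩

/-- The elements of `H` with a table in `T`. -/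
def tabSet (H : Subgroup (Equiv.Perm GolayPt)) (T : List (List ℕ)) : Set H :=
  {g | ∃ t ∈ T, Tab g.1 t}

theorem card_closure_tabSet (T : List (List ℕ)) (hT : ∀ t ∈ T, ∃ g : H, Tab g.1 t)
    (hclosed : (allProd T).all (fun e => T.all fun t => (allProd T).contains (comp e t)) = true)
    (hnd : (allProd T).Nodup) (hlen : (allProd T).all (fun e => e.length == 24) = true)
    (hid : (allProd T).contains idTab = true) :
    Nat.card (closure (tabSet H T)) = (allProd T).length ∧
      ∀ g : H, g ∈ closure (tabSet H T) ↔ ∃ e ∈ allProd T, Tab g.1 e := by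
  simp only [List.all_eq_true, List.contains_iff_mem, beq_iff_eq] at hclosed hlen hid
  set M : Set H := {g | ∃ e ∈ allProd T, Tab g.1 e} with hM
  have step : ∀ h ∈ closure (tabSet H T), ∀ x, x ∈ M ↔ x * h ∈ M := by
    intro h hh
    induction hh using closure_induction with
    | mem h hh =>
      obtain ⟨t, ht, htt⟩ := hh
      have hmaps : Set.MapsTo (· * h) M M := by
        rintro x ⟨e, he, hxe⟩
        exact ⟨_, hclosed e he t ht, tab_coe_mul hxe htt⟩
      intro x
      refine ⟨fun hx => hmaps hx, fun hx => ?_⟩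
      have := Finite.of_injective (fun x : M => (⟨x.1 * h, hmaps x.2⟩ : M)) fun a b e =>
        Subtype.ext (mul_right_cancel (congrArg Subtype.val e))
      have hsurj : Function.Surjective (fun x : M => (⟨x.1 * h, hmaps x.2⟩ : M)) :=
        Finite.injective_iff_surjective.1 fun a b e =>
          Subtype.ext (mul_right_cancel (congrArg Subtype.val e))
      obtain ⟨⟨y, hy⟩, e⟩ := hsurj ⟨x * h, hx⟩
      rwa [← mul_right_cancel (congrArg Subtype.val e)]
    | one => simp
    | mul a b _ _ iha ihb => exact fun x => (iha x).trans (by rw [← mul_assoc]; exact ihb _)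
    | inv a _ ih => exact fun x => (by have := ih (x * a⁻¹); rw [inv_mul_cancel_right] at this; exact this.symm)
  have h1 : (1 : H) ∈ M := ⟨idTab, hid, tab_one⟩
  have hiff : ∀ g : H, g ∈ closure (tabSet H T) ↔ g ∈ M := by
    intro g
    refine ⟨fun hg => by simpa using (step g hg 1).1 h1, fun ⟨e, he, hge⟩ => ?_⟩
    obtain ⟨g', hg', hge'⟩ := allProd_mem (closure (tabSet H T)) T (fun t ht => by
      obtain ⟨g', hg'⟩ := hT t ht
      exact ⟨g', subset_closure ⟨t, ht, hg'⟩, hg'⟩) e he
    rwa [eq_of_tab hge hge']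
  refine ⟨?_, hiff⟩
  have hex : ∀ e : {e // e ∈ allProd T}, ∃ g : closure (tabSet H T), Tab g.1.1 e.1 := fun e => by
    obtain ⟨g, hg, hge⟩ := allProd_mem (closure (tabSet H T)) T (fun t ht => by
      obtain ⟨g', hg'⟩ := hT t ht
      exact ⟨g', subset_closure ⟨t, ht, hg'⟩, hg'⟩) e.1 e.2
    exact ⟨⟨g, hg⟩, hge⟩
  choose f hf using hex
  have hbij : Function.Bijective f := by
    constructor
    · intro a b hab
      exact Subtype.ext (tab_getD_eq (hab ▸ hf a) (hf b) (hlen _ a.2) (hlen _ b.2))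
    · rintro ⟨g, hg⟩
      obtain ⟨e, he, hge⟩ := (hiff g).1 hg
      exact ⟨⟨e, he⟩, Subtype.ext (eq_of_tab (hf ⟨e, he⟩) hge)⟩
  rw [← Nat.card_eq_of_bijective f hbij, Nat.card_eq_fintype_card, Fintype.card_of_subtype
    (allProd T).toFinset (fun e => List.mem_toFinset), List.toFinset_card_of_nodup hnd]

section Stem

variable {Γ : Type} [Group Γ] {G : Type} [Group G] [Finite G] (σ : Γ →* G)

/-- The primes with a cyclic Sylow subgroup, or not dividing the order. -/
theorem exists_local_of_sq_not_dvd (hσ : Function.Surjective σ) (hc : σ.ker ≤ center Γ) {ℓ : ℕ}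
    (hℓ : ℓ.Prime) (h : ¬ ℓ ^ 2 ∣ Nat.card G) :
    ∃ S : Subgroup G, ¬ ℓ ∣ S.index ∧ σ.ker ⊓ ⁅S.comap σ, S.comap σ⁆ = ⊥ := by
  have : Fact ℓ.Prime := ⟨hℓ⟩
  by_cases hd : ℓ ∣ Nat.card G
  · obtain ⟨g, hg⟩ := exists_prime_orderOf_dvd_card' ℓ hd
    refine ⟨closure {g}, fun hdvd => h ?_, inf_commutator_eq_bot_of_gens σ hσ hc _ fun x y hx hy => ?_⟩
    · rw [← Subgroup.card_mul_index (closure {g}), ← zpowers_eq_closure, Nat.card_zpowers, hg, pow_two]
      exact Nat.mul_dvd_mul_left ℓ (zpowers_eq_closure g ▸ hdvd)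
    · rw [Set.mem_singleton_iff] at hx hy
      rw [comm_congr σ hc (x' := x) (y' := x) rfl (hy.trans hx.symm), commutatorElement_self]
  · refine ⟨closure (∅ : Set G), ?_, inf_commutator_eq_bot_of_gens σ hσ hc _ fun x y hx => hx.elim⟩
    rwa [Subgroup.closure_empty, Subgroup.index_bot]

/-- Commuting lifts from commutator witnesses given by tables. -/
def witCheck (x y a b ai bi : List ℕ) : Bool :=
  comp a ai == idTab && comp b bi == idTab && x == comp (comp a b) (comp ai bi) &&
    comp y a == comp a y && comp y b == comp b y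

theorem comm_of_witCheck {H : Subgroup (Equiv.Perm GolayPt)} {Γ : Type} [Group Γ] (σ : Γ →* H)
    (hσ : Function.Surjective σ) (hc : σ.ker ≤ center Γ) {x y : Γ} {lx ly la lb lai lbi : List ℕ}
    (hx : Tab (σ x).1 lx) (hy : Tab (σ y).1 ly) (ha : ∃ g : H, Tab g.1 la) (hb : ∃ g : H, Tab g.1 lb)
    (hai : ∃ g : H, Tab g.1 lai) (hbi : ∃ g : H, Tab g.1 lbi)
    (h : witCheck lx ly la lb lai lbi = true) : ⁅x, y⁆ = 1 := by
  simp only [witCheck, Bool.and_eq_true, beq_iff_eq] at h
  obtain ⟨⟨⟨⟨h1, h2⟩, h3⟩, h4⟩, h5⟩ := h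
  obtain ⟨a', ha⟩ := ha
  obtain ⟨b', hb⟩ := hb
  obtain ⟨ai, hai⟩ := hai
  obtain ⟨bi, hbi⟩ := hbi
  obtain ⟨a, rfl⟩ := hσ a'
  obtain ⟨b, rfl⟩ := hσ b'
  have e1 := eq_inv_of_tab ha hai h1
  have e2 := eq_inv_of_tab hb hbi h2
  refine comm_of_commutator σ hc (a := a) (b := b) ?_ ?_ ?_
  · rw [commutatorElement_def, ← e1, ← e2, mul_assoc (σ a * σ b)]
    exact eq_of_tab (h3 ▸ hx) (tab_coe_mul (tab_coe_mul ha hb) (tab_coe_mul hai hbi))
  · rw [mul_inv_eq_iff_eq_mul]
    exact eq_of_tab (h4 ▸ tab_coe_mul hy ha) (tab_coe_mul ha hy)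
  · rw [mul_inv_eq_iff_eq_mul]
    exact eq_of_tab (h5 ▸ tab_coe_mul hy hb) (tab_coe_mul hb hy)

/-- The check for a pair of commuting order-3 elements with an element centralising the first and
inverting the second. -/
def threeCheck (a b n : List ℕ) : Bool :=
  powTab a 3 == idTab && comp a b == comp b a && comp n a == comp a n &&
    comp n b == comp (powTab b 2) n && powTab b 3 == idTab

theorem exists_local_three {H : Subgroup (Equiv.Perm GolayPt)} {Γ : Type} [Group Γ] (σ : Γ →* H)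
    (hσ : Function.Surjective σ) (hc : σ.ker ≤ center Γ) {la lb ln : List ℕ}
    (ha : ∃ g : H, Tab g.1 la) (hb : ∃ g : H, Tab g.1 lb) (hn : ∃ g : H, Tab g.1 ln)
    (h : threeCheck la lb ln = true) (h27 : ¬ 3 ^ 3 ∣ Nat.card H) (hne : la ≠ idTab)
    (hnb : lb ≠ idTab ∧ lb ≠ la ∧ lb ≠ powTab la 2) (hlen : la.length = 24 ∧ lb.length = 24) :
    ∃ S : Subgroup H, ¬ 3 ∣ S.index ∧ σ.ker ⊓ ⁅S.comap σ, S.comap σ⁆ = ⊥ := by
  simp only [threeCheck, Bool.and_eq_true, beq_iff_eq] at h
  obtain ⟨⟨⟨⟨h1, h2⟩, h3⟩, h4⟩, h5⟩ := h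
  obtain ⟨a, ta⟩ := ha
  obtain ⟨b, tb⟩ := hb
  obtain ⟨n, tn⟩ := hn
  have ea : a ^ 3 = 1 := eq_one_of_tab (h1 ▸ tab_coe_pow ta 3)
  have eb : b ^ 3 = 1 := eq_one_of_tab (h5 ▸ tab_coe_pow tb 3)
  have eab : a * b = b * a := eq_of_tab (h2 ▸ tab_coe_mul ta tb) (tab_coe_mul tb ta)
  have ena : n * a * n⁻¹ = a := by
    rw [mul_inv_eq_iff_eq_mul]
    exact eq_of_tab (h3 ▸ tab_coe_mul tn ta) (tab_coe_mul ta tn)
  have enb : n * b * n⁻¹ = b⁻¹ := by
    rw [mul_inv_eq_iff_eq_mul, show b⁻¹ = b ^ 2 from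
      inv_eq_of_mul_eq_one_right (by rw [← pow_succ']; exact eb)]
    exact eq_of_tab (h4 ▸ tab_coe_mul tn tb) (tab_coe_mul (tab_coe_pow tb 2) tn)
  refine ⟨closure {a, b}, ?_, inf_commutator_eq_bot_of_gens σ hσ hc _ ?_⟩
  · have hne1 : a ≠ 1 := fun e => hne (tab_getD_eq (e ▸ ta) tab_one hlen.1 (by simp [idTab]))
    have : Fact (Nat.Prime 3) := ⟨Nat.prime_three⟩
    have oa : orderOf a = 3 := orderOf_eq_prime ea hne1
    have hbnot : b ∉ zpowers a := by
      intro hb'
      rw [← mem_powers_iff_mem_zpowers, mem_powers_iff_mem_range_orderOf, oa, Finset.mem_image] at hb'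
      obtain ⟨k, hk, hkb⟩ := hb'
      rw [Finset.mem_range] at hk
      subst hkb
      interval_cases k
      · exact hnb.1 (tab_getD_eq tb (by rw [pow_zero]; exact tab_one) hlen.2 (by simp [idTab]))
      · exact hnb.2.1 (tab_getD_eq tb (by rw [pow_one]; exact ta) hlen.2 hlen.1)
      · exact hnb.2.2 (tab_getD_eq tb (tab_coe_pow ta 2) hlen.2 (by simp [powTab, comp]))
    intro hdvd
    have hle : zpowers a ≤ closure {a, b} := zpowers_le.2 (subset_closure (by simp))
    have h3d : (zpowers a).relIndex (closure {a, b}) * Nat.card (zpowers a) =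
        Nat.card (closure {a, b}) := by
      rw [mul_comm, ← Subgroup.relIndex_bot_left, ← Subgroup.relIndex_bot_left]
      exact Subgroup.relIndex_mul_relIndex ⊥ _ _ bot_le hle
    have hpg : IsPGroup 3 (closure {a, b}) := by
      rw [IsPGroup.iff_orderOf]
      rintro ⟨x, hx⟩
      have hx3 : x ^ 3 = 1 := by
        have hcomm : ∀ y ∈ closure {a, b}, ∀ w ∈ closure {a, b}, y * w = w * y := by
          intro y hy w hw
          have h1 : closure {a, b} ≤ centralizer ({a, b} : Set H) :=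
            (closure_le _).2 fun u hu => mem_centralizer_iff.2 fun v hv => by
              rcases hu with rfl | rfl <;> rcases hv with rfl | rfl
              exacts [rfl, eab.symm, eab, rfl]
          have h2 : closure {a, b} ≤ centralizer {y} :=
            (closure_le _).2 fun u hu => mem_centralizer_iff.2 fun v hv => by
              rw [Set.mem_singleton_iff] at hv
              subst hv
              exact (mem_centralizer_iff.1 (h1 hy) u hu).symm
          exact mem_centralizer_iff.1 (h2 hw) y rfl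
        induction hx using closure_induction with
        | mem u hu => rcases hu with rfl | rfl <;> assumption
        | one => simp
        | mul y w hy hw ihy ihw => rw [(show Commute y w from hcomm y hy w hw).mul_pow, ihy, ihw, mul_one]
        | inv y _ ih => rw [inv_pow, ih, inv_one]
      rw [Subgroup.orderOf_mk]
      rcases (Nat.dvd_prime Nat.prime_three).1 (orderOf_dvd_of_pow_eq_one hx3) with e | e
      · exact ⟨0, e⟩
      · exact ⟨1, e⟩
    obtain ⟨k, hk⟩ := IsPGroup.iff_card.1 hpg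
    have hk2 : 2 ≤ k := by
      by_contra hlt
      push Not at hlt
      have hsub : closure {a, b} ≤ zpowers a := by
        refine le_of_eq (Subgroup.eq_of_le_of_card_ge hle ?_).symm
        rw [hk, Nat.card_zpowers, oa]
        exact (Nat.pow_le_pow_right (by norm_num) (by omega : k ≤ 1)).trans (le_of_eq (pow_one 3))
      exact hbnot (hsub (subset_closure (by simp)))
    apply h27
    rw [← Subgroup.card_mul_index (closure {a, b}), hk]
    exact (pow_succ 3 2) ▸ Nat.mul_dvd_mul (pow_dvd_pow 3 hk2) hdvd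
  · intro x y hx hy
    have key : ∀ x y : Γ, σ x = a → σ y = b → ⁅x, y⁆ = 1 := by
      intro x y hx hy
      obtain ⟨g, rfl⟩ := hσ n
      exact comm_of_inverting σ hc (g := g) (n := 3) ⟨1, rfl⟩ (by rw [hx, ea]) (by rw [hx, hy, eab])
        (by rw [hx, ena]) (by rw [hy, enb])
    rcases hx with hx | hx <;> rcases hy with hy | hy
    · rw [comm_congr σ hc (x' := x) (y' := x) rfl (hy.trans hx.symm), commutatorElement_self]
    · exact key x y hx hy
    · rw [← commutatorElement_inv, key y x hy hx, inv_one]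
    · rw [comm_congr σ hc (x' := x) (y' := x) rfl (hy.trans hx.symm), commutatorElement_self]

end Stem

end Cfsg.Agent.Golay.Mult
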