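import Cfsg.Agent.Lib.Golay.Mult.Cocycle
import Cfsg.Agent.Lib.Schur.Perfect

/-!
Stem extensions of a 3-transitive group whose point stabiliser is perfect with trivial multiplier:
the kernel is an image of the two-point stabiliser.
-/

set_option autoImplicit false

namespace Cfsg.Agent.Golay.Mult

open Subgroup
open scoped IsMulCommutative

universe u v w

theorem isPerfect_of_simple {G : Type u} [Group G] [Finite G] [IsSimpleGroup G]
    (h : ¬ (Nat.card G).Prime) : Group.IsPerfect G := by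
  refine ⟨?_⟩
  rcases (inferInstance : (_root_.commutator G).Normal).eq_bot_or_eq_top with e | e
  · exfalso
    apply h
    let _ : CommGroup G :=
      { mul_comm := fun a b => commutatorElement_eq_one_iff_mul_comm.1 (Subgroup.mem_bot.1
          (e ▸ commutator_mem_commutator (mem_top a) (mem_top b))) }
    exact IsSimpleGroup.prime_card
  · exact e

theorem exists_surjective_twist {Γ : Type u} [Group Γ] {G : Type v} [Group G] {X : Type w}
    [MulAction G X] (σ : Γ →* G) (hσ : Cfsg.IsStemExtension σ)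
    (x0 x1 x2 : X) (h10 : x1 ≠ x0) (h20 : x2 ≠ x0) (h21 : x2 ≠ x1)
    (hpre : ∀ a : X, ∃ h : G, h • x0 = a)
    (htr : ∀ a b a' b' : X, a ≠ x0 → b ≠ x0 → a ≠ b → a' ≠ x0 → b' ≠ x0 → a' ≠ b' →
      ∃ h : G, h • x0 = x0 ∧ h • a = a' ∧ h • b = b')
    (hperf : Group.IsPerfect (MulAction.stabilizer G x0))
    (hmult : Cfsg.HasCyclicSchurMultiplier (MulAction.stabilizer G x0) 1) :
    ∃ θ : ↥(MulAction.stabilizer G x0 ⊓ MulAction.stabilizer G x1) →* σ.ker,
      Function.Surjective θ := by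
  obtain ⟨hσs, hc, hcomm⟩ := hσ
  have : IsMulCommutative σ.ker :=
    ⟨⟨fun a b => Subtype.ext (Subgroup.mem_center_iff.1 (hc b.2) a.1)⟩⟩
  set H := MulAction.stabilizer G x0 with hH
  set τ := σ.subgroupComap H with hτ
  have hτs : Function.Surjective τ := σ.subgroupComap_surjective_of_surjective H hσs
  have hτk : ∀ x : H.comap σ, x ∈ τ.ker ↔ (x : Γ) ∈ σ.ker := fun x => by
    simp only [MonoidHom.mem_ker]
    exact Subtype.ext_iff
  have hbot := Cfsg.Agent.Schur.ker_inf_commutator_eq_bot hmult τ hτs fun x hx => by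
    rw [Subgroup.mem_center_iff]
    exact fun y => Subtype.ext (Subgroup.mem_center_iff.1 (hc ((hτk x).1 hx)) y)
  set L : Subgroup Γ := (_root_.commutator (H.comap σ)).map (H.comap σ).subtype with hLdef
  have hL : ∀ l ∈ L, σ l • x0 = x0 := by
    rintro _ ⟨l, -, rfl⟩
    exact l.2
  have hLs : ∀ h : G, h • x0 = x0 → ∃ l ∈ L, σ l = h := by
    intro h hh
    have hmap : (_root_.commutator (H.comap σ)).map τ = ⊤ := by
      rw [_root_.commutator_def, map_commutator, map_top_of_surjective τ hτs, ← _root_.commutator_def]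
      exact eq_top_iff.2 fun x _ => Group.IsPerfect.mem_commutator (hP := hperf)
    obtain ⟨l, hl, el⟩ := hmap.ge (mem_top (⟨h, hh⟩ : H))
    exact ⟨l, ⟨l, hl, rfl⟩, congrArg Subtype.val el⟩
  have hLk : σ.ker ⊓ L = ⊥ := by
    rw [eq_bot_iff]
    rintro _ ⟨hk, l, hl, rfl⟩
    have : l ∈ (⊥ : Subgroup (H.comap σ)) := hbot ▸ Subgroup.mem_inf.2 ⟨(hτk l).2 hk, hl⟩
    rw [Subgroup.mem_bot] at this
    simp [this]
  have hLu : ∀ {l l' : Γ} {k k' : σ.ker}, l ∈ L → l' ∈ L → l * k = l' * k' → k = k' := by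
    intro l l' k k' hl hl' e
    have h1 : l'⁻¹ * l ∈ σ.ker ⊓ L := by
      refine ⟨?_, L.mul_mem (L.inv_mem hl') hl⟩
      have : l'⁻¹ * l = ((k' * k⁻¹ : σ.ker) : Γ) := by
        rw [Subgroup.coe_mul, Subgroup.coe_inv, eq_mul_inv_iff_mul_eq, mul_assoc, e,
          inv_mul_cancel_left]
      rw [this]
      exact (k' * k⁻¹).2
    rw [hLk, Subgroup.mem_bot, inv_mul_eq_one] at h1
    subst h1
    exact Subtype.ext (mul_left_cancel e)
  obtain ⟨h, hh⟩ := hpre x1
  obtain ⟨g, rfl⟩ := hσs h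
  -- the twist
  have hex : ∀ y : ↥(H ⊓ MulAction.stabilizer G x1), ∃ k : σ.ker,
      ∃ l ∈ L, σ l = y.1 ∧ ∃ l' ∈ L, g⁻¹ * l * g = l' * k := by
    intro y
    obtain ⟨l, hl, el⟩ := hLs y.1 y.2.1
    have hfix : σ (g⁻¹ * l * g) • x0 = x0 := by
      rw [map_mul, map_mul, map_inv, el, mul_smul, mul_smul, inv_smul_eq_iff, hh]
      exact y.2.2
    obtain ⟨l', hl', el'⟩ := hLs _ hfix
    exact ⟨⟨l'⁻¹ * (g⁻¹ * l * g), by rw [MonoidHom.mem_ker, map_mul, map_inv, el', inv_mul_cancel]⟩,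
      l, hl, el, l', hl', (mul_inv_cancel_left _ _).symm⟩
  choose t ht using hex
  have huniq : ∀ (y : ↥(H ⊓ MulAction.stabilizer G x1)) (l l' : Γ) (k : σ.ker), l ∈ L → σ l = y.1 →
      l' ∈ L → g⁻¹ * l * g = l' * k → t y = k := by
    intro y l l' k hl el hl' e
    obtain ⟨m, hm, em, m', hm', e'⟩ := ht y
    have hmk : l⁻¹ * m ∈ σ.ker := by rw [MonoidHom.mem_ker, map_mul, map_inv, el, em, inv_mul_cancel]
    have h1 : l⁻¹ * m ∈ σ.ker ⊓ L := ⟨hmk, L.mul_mem (L.inv_mem hl) hm⟩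
    rw [hLk, Subgroup.mem_bot, inv_mul_eq_one] at h1
    subst h1
    exact hLu hm' hl' (e'.symm.trans e)
  let θ : ↥(H ⊓ MulAction.stabilizer G x1) →* σ.ker := MonoidHom.mk' t fun a b => by
    obtain ⟨l, hl, el, l', hl', e⟩ := ht a
    obtain ⟨m, hm, em, m', hm', e'⟩ := ht b
    refine huniq _ (l * m) (l' * m') _ (L.mul_mem hl hm) (by rw [map_mul, el, em]; rfl)
      (L.mul_mem hl' hm') ?_
    calc g⁻¹ * (l * m) * g = (g⁻¹ * l * g) * (g⁻¹ * m * g) := by group
      _ = l' * ((t a : Γ) * m') * t b := by rw [e, e']; group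
      _ = l' * (m' * t a) * t b := by rw [Subgroup.mem_center_iff.1 (hc (t a).2) m']
      _ = _ := by rw [Subgroup.coe_mul]; group
  refine ⟨θ, fun z => ?_⟩
  have := kills_of_three_transitive σ hσs hc x0 x1 x2 h10 h20 h21 hpre htr
    (QuotientGroup.mk' θ.range) L hL hLs hLk g hh (fun l hl l' hl' k e => ?_) z (hcomm z.2)
  · exact (QuotientGroup.eq_one_iff z).1 this
  have hy : σ l ∈ H ⊓ MulAction.stabilizer G x1 := by
    refine ⟨hL l hl, ?_⟩
    have h1 := congrArg (fun x => σ x • x0) e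
    simp only [map_mul, map_inv, MonoidHom.mem_ker.1 k.2, mul_one, mul_smul, hL l' hl', hh,
      inv_smul_eq_iff] at h1
    exact h1
  exact (QuotientGroup.eq_one_iff k).2 ⟨⟨σ l, hy⟩, huniq _ l l' k hl rfl hl' e⟩

end Cfsg.Agent.Golay.Mult
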