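import Cfsg.Agent.Lib.Golay.Mult.M23
import Cfsg.Agent.Lib.Golay.Mult.Lift
import Cfsg.Agent.Lib.Golay.Simple

/-!
The Schur multiplier of M₂₄ is trivial.
-/

set_option autoImplicit false

namespace Cfsg.Agent.Golay.Mult

open Subgroup
open scoped IsMulCommutative

theorem stem_trivial_M24 {Γ : Type} [Group Γ] [Finite Γ] (σ : Γ →* M24)
    (hσ : Cfsg.IsStemExtension σ) : σ.ker = ⊥ := by
  have hp : ¬ (10200960 : ℕ).Prime := by norm_num
  have hp2 : ¬ (443520 : ℕ).Prime := by norm_num
  have : IsSimpleGroup (MulAction.stabilizer M24 (none : GolayPt)) := isSimpleGroup_stabilizer none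
  obtain ⟨e⟩ := nonempty_stabilizer_equiv_M23 (none : GolayPt)
  have h5 : MulAction.IsMultiplyPretransitive M24 GolayPt 5 := five_transitive
  have h3 : MulAction.IsMultiplyPretransitive M24 GolayPt 3 :=
    MulAction.isMultiplyPretransitive_of_le (n := 5) (by norm_num)
      (by rw [Nat.card_eq_fintype_card, card_golayPt]; norm_num)
  obtain ⟨θ, hθ⟩ := exists_surjective_twist σ hσ (none : GolayPt) (some 0) (some 1) (by simp)
    (by simp) (by decide +kernel) (fun a => by
      obtain ⟨g, hg, h⟩ := exists_map_one a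
      exact ⟨⟨g, hg⟩, h⟩)
    (fun a b a' b' ha hb hab ha' hb' hab' => by
      obtain ⟨g, hg⟩ := h3.exists_smul_eq
        ⟨![none, a, b], by
          intro i j h
          fin_cases i <;> fin_cases j <;> first | rfl | exact absurd h (by first
            | assumption | exact Ne.symm ha | exact Ne.symm hb | exact Ne.symm hab)⟩
        ⟨![none, a', b'], by
          intro i j h
          fin_cases i <;> fin_cases j <;> first | rfl | exact absurd h (by first
            | assumption | exact Ne.symm ha' | exact Ne.symm hb' | exact Ne.symm hab')⟩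
      exact ⟨g, DFunLike.congr_fun hg 0, DFunLike.congr_fun hg 1, DFunLike.congr_fun hg 2⟩)
    (isPerfect_of_simple (by rw [Nat.card_congr e.toEquiv, card_M23]; exact hp))
    (Cfsg.Agent.Schur.hasSchurMultiplier_congr e.symm hasCyclicSchurMultiplier_M23)
  have : IsSimpleGroup ↥(MulAction.stabilizer M24 (none : GolayPt) ⊓
      MulAction.stabilizer M24 (some 0 : GolayPt)) := isSimpleGroup_stabilizer_two none (some 0) (by simp)
  have hK : Group.IsPerfect ↥(MulAction.stabilizer M24 (none : GolayPt) ⊓
      MulAction.stabilizer M24 (some 0 : GolayPt)) :=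
    isPerfect_of_simple (by rw [card_stabilizer_two _ _ (by simp)]; exact hp2)
  have : IsMulCommutative σ.ker :=
    ⟨⟨fun a b => Subtype.ext (Subgroup.mem_center_iff.1 (hσ.2.1 b.2) a.1)⟩⟩
  rw [eq_bot_iff]
  intro z hz
  obtain ⟨y, hy⟩ := hθ ⟨z, hz⟩
  rw [Cfsg.Agent.Schur.monoidHom_eq_one_of_perfect hK θ y] at hy
  exact (congrArg Subtype.val hy).symm

theorem hasCyclicSchurMultiplier_M24 : Cfsg.HasCyclicSchurMultiplier Cfsg.M24 1 :=
  Cfsg.Agent.Schur.hasCyclicSchurMultiplier_one_of_forall fun _ _ _ σ hσ => stem_trivial_M24 σ hσ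

end Cfsg.Agent.Golay.Mult
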