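import Cfsg.Agent.Lib.Golay.Mult.Local

/-!
Complements in the preimage of an elementary abelian subgroup, cut out by fixed-point-free
elements, and the derived subgroup of the preimage of an extension by a dihedral group of order 8.
-/

set_option autoImplicit false

namespace Cfsg.Agent.Golay.Mult

open Subgroup
open scoped commutatorElement

universe u v

variable {Γ : Type u} [Group Γ] {G : Type v} [Group G]

/-- The commutators of a lift of a fixed element with the preimage of `A`. -/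
def commImage (σ : Γ →* G) (A : Subgroup G) (S : Γ) : Subgroup Γ :=
  closure ((fun x => ⁅S, x⁆) '' (A.comap σ : Set Γ))

/-- `g` maps `A` to itself under conjugation. -/
def Normalises (A : Subgroup G) (g : G) : Prop := ∀ a ∈ A, g * a * g⁻¹ ∈ A

/-- `g` normalises `A` and fixes no non-identity element of it. -/
def Fpf (A : Subgroup G) (g : G) : Prop :=
  Normalises A g ∧ ∀ a ∈ A, g * a * g⁻¹ = a → a = 1

theorem Normalises.inv [Finite G] {A : Subgroup G} {g : G} (h : Normalises A g) :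
    ∀ a ∈ A, g⁻¹ * a * g ∈ A := by
  intro a ha
  have hsurj : Function.Surjective (fun a : A => (⟨g * a * g⁻¹, h _ a.2⟩ : A)) :=
    Finite.injective_iff_surjective.1 fun a b e =>
      Subtype.ext (mul_left_cancel (mul_right_cancel (congrArg Subtype.val e)))
  obtain ⟨⟨b, hb⟩, e⟩ := hsurj ⟨a, ha⟩
  have e' : g * b * g⁻¹ = a := congrArg Subtype.val e
  rw [← e', show g⁻¹ * (g * b * g⁻¹) * g = b by group]
  exact hb

theorem normalises_closure {T : Set G} {g : G} (h : ∀ t ∈ T, g * t * g⁻¹ ∈ closure T) :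
    Normalises (closure T) g := by
  intro a ha
  induction ha using closure_induction with
  | mem t ht => exact h t ht
  | one => simp
  | mul x y _ _ hx hy => rw [conj_mul.symm]; exact mul_mem hx hy
  | inv x _ hx => rw [← conj_inv]; exact inv_mem hx

variable (σ : Γ →* G)

theorem comm_of_preimage (hσ : Function.Surjective σ) (hc : σ.ker ≤ center Γ) (T : Set G)
    (hT : ∀ x y : Γ, σ x ∈ T → σ y ∈ T → ⁅x, y⁆ = 1) :
    ∀ x ∈ (closure T).comap σ, ∀ y ∈ (closure T).comap σ, x * y = y * x := by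
  intro x hx y hy
  rw [← commutatorElement_eq_one_iff_mul_comm]
  have h : ⁅(closure T).comap σ, (closure T).comap σ⁆ ≤ ⊥ := by
    rw [← closure_sup_ker_eq_comap σ T hσ]
    refine commutator_closure_le _ ⊥ (fun u _ n => by simp) fun u hu v hv => ?_
    rw [Subgroup.mem_bot]
    rcases hu with hu | hu
    · rcases hv with hv | hv
      · exact hT u v hu hv
      · exact commutatorElement_eq_one_iff_mul_comm.2 (Subgroup.mem_center_iff.1 (hc hv) u)
    · exact commutatorElement_eq_one_iff_mul_comm.2 (Subgroup.mem_center_iff.1 (hc hu) v).symm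
  exact Subgroup.mem_bot.1 (h (commutator_mem_commutator hx hy))

variable {A : Subgroup G}

theorem mem_commImage (hab : ∀ x ∈ A.comap σ, ∀ y ∈ A.comap σ, x * y = y * x)
    {S : Γ} (hS : Normalises A (σ S)) {w : Γ} (hw : w ∈ commImage σ A S) :
    w ∈ A.comap σ ∧ ∃ x ∈ A.comap σ, ⁅S, x⁆ = w := by
  have hmem : ∀ x ∈ A.comap σ, ⁅S, x⁆ ∈ A.comap σ := fun x hx => by
    rw [Subgroup.mem_comap, map_commutatorElement, commutatorElement_def]
    exact mul_mem (hS _ hx) (inv_mem hx)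
  induction hw using closure_induction with
  | mem w hw =>
    obtain ⟨x, hx, rfl⟩ := hw
    exact ⟨hmem x hx, x, hx, rfl⟩
  | one => exact ⟨one_mem _, 1, one_mem _, commutatorElement_one_right S⟩
  | mul a b _ _ ha hb =>
    obtain ⟨ha', x, hx, rfl⟩ := ha
    obtain ⟨hb', y, hy, rfl⟩ := hb
    refine ⟨mul_mem ha' hb', x * y, mul_mem hx hy, ?_⟩
    calc ⁅S, x * y⁆ = ⁅S, x⁆ * (x * ⁅S, y⁆ * x⁻¹) := by simp only [commutatorElement_def]; group
      _ = _ := by rw [hab x hx _ (hmem y hy), mul_inv_cancel_right]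
  | inv a _ ha =>
    obtain ⟨ha', x, hx, rfl⟩ := ha
    refine ⟨inv_mem ha', x⁻¹, inv_mem hx, ?_⟩
    calc ⁅S, x⁻¹⁆ = x⁻¹ * ⁅S, x⁆⁻¹ * x := by simp only [commutatorElement_def]; group
      _ = _ := by rw [hab _ (inv_mem hx) _ (inv_mem ha'), inv_mul_cancel_right]

theorem ker_inf_commImage (hc : σ.ker ≤ center Γ)
    (hab : ∀ x ∈ A.comap σ, ∀ y ∈ A.comap σ, x * y = y * x) {S : Γ} (hS : Fpf A (σ S)) :
    σ.ker ⊓ commImage σ A S = ⊥ := by
  rw [eq_bot_iff]
  rintro w ⟨hw, hw'⟩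
  obtain ⟨-, x, hx, rfl⟩ := mem_commImage σ hab hS.1 hw'
  have hw : σ ⁅S, x⁆ = 1 := hw
  rw [map_commutatorElement, commutatorElement_def, mul_inv_eq_one] at hw
  have hxk : x ∈ σ.ker := MonoidHom.mem_ker.2 (hS.2 _ hx hw)
  rw [Subgroup.mem_bot]
  exact commutatorElement_eq_one_iff_mul_comm.2 (Subgroup.mem_center_iff.1 (hc hxk) S)

theorem map_commImage [Finite G] (hσ : Function.Surjective σ)
    (hab : ∀ x ∈ A.comap σ, ∀ y ∈ A.comap σ, x * y = y * x) {S : Γ} (hS : Fpf A (σ S))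
    {a : G} (ha : a ∈ A) : ∃ w ∈ commImage σ A S, σ w = a := by
  have hmem : ∀ b : A, σ S * b.1 * (σ S)⁻¹ * b.1⁻¹ ∈ A := fun b => mul_mem (hS.1 _ b.2) (inv_mem b.2)
  have hcomm : ∀ b c : A, b.1 * c.1 = c.1 * b.1 := by
    intro b c
    obtain ⟨x, hx⟩ := hσ b.1
    obtain ⟨y, hy⟩ := hσ c.1
    have h := congrArg σ (hab x (show σ x ∈ A by rw [hx]; exact b.2) y
      (show σ y ∈ A by rw [hy]; exact c.2))
    rwa [map_mul, map_mul, hx, hy] at h
  have hinj : Function.Injective (fun b : A => (⟨_, hmem b⟩ : A)) := by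
    intro b c e
    have e' : σ S * b.1 * (σ S)⁻¹ * b.1⁻¹ = σ S * c.1 * (σ S)⁻¹ * c.1⁻¹ := congrArg Subtype.val e
    have hfix : σ S * (c.1⁻¹ * b.1) * (σ S)⁻¹ = c.1⁻¹ * b.1 := by
      rw [← conj_mul, ← conj_inv]
      calc (σ S * c.1 * (σ S)⁻¹)⁻¹ * (σ S * b.1 * (σ S)⁻¹)
          = (σ S * c.1 * (σ S)⁻¹)⁻¹ * (σ S * c.1 * (σ S)⁻¹ * c.1⁻¹ * b.1) := by
            rw [← e', inv_mul_cancel_right]
        _ = _ := by group
    exact Subtype.ext (inv_mul_eq_one.1 (hS.2 _ (mul_mem (inv_mem c.2) b.2) hfix)).symm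
  obtain ⟨b, hb⟩ := (Finite.injective_iff_surjective.1 hinj) ⟨a, ha⟩
  obtain ⟨x, hx⟩ := hσ b.1
  refine ⟨⁅S, x⁆, subset_closure ⟨x, show σ x ∈ A by rw [hx]; exact b.2, rfl⟩, ?_⟩
  rw [map_commutatorElement, hx, commutatorElement_def]
  exact congrArg Subtype.val hb

theorem conj_commImage_le (hc : σ.ker ≤ center Γ) {P S S' : Γ}
    (hP : Normalises A (σ P)) (h : σ P * σ S * (σ P)⁻¹ = σ S') {w : Γ} (hw : w ∈ commImage σ A S) :
    P * w * P⁻¹ ∈ commImage σ A S' := by
  induction hw using closure_induction with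
  | mem w hw =>
    obtain ⟨x, hx, rfl⟩ := hw
    rw [show P * ⁅S, x⁆ * P⁻¹ = ⁅S', P * x * P⁻¹⁆ from
      comm_conj σ hc h (by rw [map_mul, map_mul, map_inv])]
    exact subset_closure ⟨_, show σ (P * x * P⁻¹) ∈ A by
      rw [map_mul, map_mul, map_inv]; exact hP _ hx, rfl⟩
  | one => simp
  | mul a b _ _ ha hb => rw [← conj_mul]; exact mul_mem ha hb
  | inv a _ ha => rw [← conj_inv]; exact inv_mem ha

/-- Commuting fixed-point-free elements cut out the same complement. -/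
theorem commImage_le_of_commute [Finite G] (hσ : Function.Surjective σ) (hc : σ.ker ≤ center Γ)
    (hab : ∀ x ∈ A.comap σ, ∀ y ∈ A.comap σ, x * y = y * x) {S S' : Γ} (hS : Fpf A (σ S))
    (hS' : Fpf A (σ S')) (h : σ S * σ S' = σ S' * σ S) : commImage σ A S' ≤ commImage σ A S := by
  refine (closure_le _).2 ?_
  rintro _ ⟨x, hx, rfl⟩
  obtain ⟨w, hw, ew⟩ := map_commImage σ hσ hab hS hx
  rw [SetLike.mem_coe]
  show ⁅S', x⁆ ∈ commImage σ A S
  rw [comm_congr σ hc (x' := S') (y' := w) rfl ew.symm, commutatorElement_def]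
  exact mul_mem (conj_commImage_le σ hc hS'.1 (by rw [← h, mul_inv_cancel_right]) hw) (inv_mem hw)

theorem commImage_eq_of_chain [Finite G] (hσ : Function.Surjective σ) (hc : σ.ker ≤ center Γ)
    (hab : ∀ x ∈ A.comap σ, ∀ y ∈ A.comap σ, x * y = y * x) {S1 S2 S3 : Γ} (h1 : Fpf A (σ S1))
    (h2 : Fpf A (σ S2)) (h3 : Fpf A (σ S3)) (e12 : σ S1 * σ S2 = σ S2 * σ S1)
    (e23 : σ S2 * σ S3 = σ S3 * σ S2) : commImage σ A S1 = commImage σ A S3 :=
  (le_antisymm (commImage_le_of_commute σ hσ hc hab h2 h1 e12.symm)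
    (commImage_le_of_commute σ hσ hc hab h1 h2 e12)).trans
  (le_antisymm (commImage_le_of_commute σ hσ hc hab h3 h2 e23.symm)
    (commImage_le_of_commute σ hσ hc hab h2 h3 e23))

/-- The preimage of `A ⋊ D₈`: the kernel misses the derived subgroup. -/
theorem inf_commutator_eq_bot_of_split [Finite Γ] [Finite G] (hσ : Function.Surjective σ)
    (hc : σ.ker ≤ center Γ) (T : Set G) (hT : ∀ x y : Γ, σ x ∈ T → σ y ∈ T → ⁅x, y⁆ = 1)
    {r s t r1 s1 : G} (hr : r ^ 4 = 1) (hs : s * s = 1) (hsr : s * r * s⁻¹ = r⁻¹)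
    (hr2 : r ^ 2 ∉ closure T) (hw : ∀ x y : Γ, σ x = s → σ y = r ^ 2 → ⁅x, y⁆ = 1)
    (nr : Normalises (closure T) r) (ns : Normalises (closure T) s) (ft : Fpf (closure T) t)
    (fr1 : Fpf (closure T) r1) (fs1 : Fpf (closure T) s1) (frt : Fpf (closure T) (r * t * r⁻¹))
    (fst' : Fpf (closure T) (s * t * s⁻¹)) (ctr : t * r1 = r1 * t)
    (cr : r1 * (r * t * r⁻¹) = r * t * r⁻¹ * r1) (cts : t * s1 = s1 * t)
    (cs : s1 * (s * t * s⁻¹) = s * t * s⁻¹ * s1) :
    σ.ker ⊓ ⁅(closure (T ∪ {r, s})).comap σ, (closure (T ∪ {r, s})).comap σ⁆ = ⊥ := by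
  obtain ⟨R, rfl⟩ := hσ r
  obtain ⟨U, rfl⟩ := hσ s
  obtain ⟨S, rfl⟩ := hσ t
  obtain ⟨R1, rfl⟩ := hσ r1
  obtain ⟨U1, rfl⟩ := hσ s1
  set A := closure T with hA
  have hab := comm_of_preimage σ hσ hc T hT
  set A0 := commImage σ A S with hA0
  have hRS : σ (R * S * R⁻¹) = σ R * σ S * (σ R)⁻¹ := by rw [map_mul, map_mul, map_inv]
  have hUS : σ (U * S * U⁻¹) = σ U * σ S * (σ U)⁻¹ := by rw [map_mul, map_mul, map_inv]
  have eR : commImage σ A (R * S * R⁻¹) = A0 :=
    (commImage_eq_of_chain σ hσ hc hab ft fr1 (by rw [hRS]; exact frt) ctr (by rw [hRS]; exact cr)).symm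
  have eU : commImage σ A (U * S * U⁻¹) = A0 :=
    (commImage_eq_of_chain σ hσ hc hab ft fs1 (by rw [hUS]; exact fst') cts (by rw [hUS]; exact cs)).symm
  have invR : ∀ w ∈ A0, R * w * R⁻¹ ∈ A0 := fun w hw' =>
    eR ▸ conj_commImage_le σ hc nr hRS.symm hw'
  have invU : ∀ w ∈ A0, U * w * U⁻¹ ∈ A0 := fun w hw' =>
    eU ▸ conj_commImage_le σ hc ns hUS.symm hw'
  -- the cyclic part
  have hzk : R * (U * R * U⁻¹) ∈ σ.ker := by
    rw [MonoidHom.mem_ker, map_mul, map_mul, map_mul, map_inv, hsr, mul_inv_cancel]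
  set z := R * (U * R * U⁻¹) with hz
  have hURU : U * R * U⁻¹ = R⁻¹ * z := by rw [hz, inv_mul_cancel_left]
  clear_value z
  have hzc : ∀ g : Γ, g * z = z * g := Subgroup.mem_center_iff.1 (hc hzk)
  set w := ⁅U, R⁆ with hwdef
  have hww : w = R⁻¹ * R⁻¹ * z := by
    rw [hwdef, commutatorElement_def, hURU, mul_assoc, ← hzc R⁻¹, mul_assoc]
  have hwR : R * w * R⁻¹ = w := by
    rw [hww]
    calc R * (R⁻¹ * R⁻¹ * z) * R⁻¹ = R⁻¹ * (z * R⁻¹) := by group
      _ = _ := by rw [← hzc R⁻¹]; group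
  have hwU : U * w * U⁻¹ = w⁻¹ := by
    rw [hww, ← conj_mul, ← conj_mul, ← conj_inv, hURU, hzc U, mul_inv_cancel_right]
    calc (R⁻¹ * z)⁻¹ * (R⁻¹ * z)⁻¹ * z = z⁻¹ * (R * z⁻¹) * R * z := by group
      _ = z⁻¹ * (z⁻¹ * R) * R * z := by
        rw [Subgroup.mem_center_iff.1 (inv_mem (hc hzk)) R]
      _ = z⁻¹ * (z⁻¹ * (R * R) * z) := by group
      _ = z⁻¹ * (R * R) := by
        have hRR : z⁻¹ * (R * R) * z = R * R := by
          rw [← Subgroup.mem_center_iff.1 (inv_mem (hc hzk)) (R * R), inv_mul_cancel_right]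
        rw [hRR]
      _ = _ := by simp only [_root_.mul_inv_rev, inv_inv]
  have hw2 : w ^ 2 = 1 := by
    have h := commutatorElement_eq_one_iff_mul_comm.1 (hw U (R * R) rfl (by rw [map_mul, pow_two]))
    have h' : U * (R * R) * U⁻¹ = R * R := by rw [h, mul_inv_cancel_right]
    rw [← conj_mul, hURU] at h'
    rw [pow_two, hww]
    calc R⁻¹ * R⁻¹ * z * (R⁻¹ * R⁻¹ * z) = R⁻¹ * R⁻¹ * ((z * R⁻¹) * (R⁻¹ * z)) := by group
      _ = R⁻¹ * R⁻¹ * ((R⁻¹ * z) * (R⁻¹ * z)) := by rw [← hzc R⁻¹]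
      _ = 1 := by rw [h']; group
  have hwi : w⁻¹ = w := inv_eq_of_mul_eq_one_right (by rw [← pow_two]; exact hw2)
  have invW : ∀ a ∈ A0, w * a * w⁻¹ ∈ A0 := by
    intro a ha
    have invI : ∀ V : Γ, (∀ a ∈ A0, V * a * V⁻¹ ∈ A0) → ∀ a ∈ A0, V⁻¹ * a * V ∈ A0 := by
      intro V hV a ha
      exact Normalises.inv (A := A0) hV a ha
    rw [hwdef, commutatorElement_def, show U * R * U⁻¹ * R⁻¹ * a * (U * R * U⁻¹ * R⁻¹)⁻¹
      = U * (R * (U⁻¹ * (R⁻¹ * a * R) * U) * R⁻¹) * U⁻¹ by group]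
    exact invU _ (invR _ (invI U invU _ (invI R invR _ ha)))
  set N := A0 ⊔ zpowers w with hNdef
  have hNmem : ∀ n ∈ N, ∃ a ∈ A0, n = a ∨ n = a * w := by
    intro n hn
    rw [hNdef, sup_eq_closure] at hn
    induction hn using closure_induction with
    | mem n hn =>
      rcases hn with hn | ⟨k, rfl⟩
      · exact ⟨n, hn, Or.inl rfl⟩
      · refine ⟨1, one_mem _, ?_⟩
        rcases Int.even_or_odd' k with ⟨j, rfl | rfl⟩
        · left; show w ^ (2 * j) = 1; rw [zpow_mul, zpow_two, ← pow_two, hw2, one_zpow]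
        · right; show w ^ (2 * j + 1) = 1 * w
          rw [zpow_add_one, zpow_mul, zpow_two, ← pow_two, hw2, one_zpow]
    | one => exact ⟨1, one_mem _, Or.inl rfl⟩
    | mul x y _ _ hx hy =>
      obtain ⟨a, ha, hx⟩ := hx
      obtain ⟨b, hb, hy⟩ := hy
      rcases hx with rfl | rfl <;> rcases hy with rfl | rfl
      · exact ⟨_, mul_mem ha hb, Or.inl rfl⟩
      · exact ⟨x * b, mul_mem ha hb, Or.inr (mul_assoc _ _ _).symm⟩
      · exact ⟨a * (w * y * w⁻¹), mul_mem ha (invW _ hb), Or.inr (by group)⟩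
      · refine ⟨a * (w * b * w⁻¹), mul_mem ha (invW _ hb), Or.inl ?_⟩
        calc a * w * (b * w) = a * (w * b * w⁻¹) * (w * w) := by group
          _ = _ := by rw [← pow_two, hw2, mul_one]
    | inv x _ hx =>
      obtain ⟨a, ha, rfl | rfl⟩ := hx
      · exact ⟨_, inv_mem ha, Or.inl rfl⟩
      · exact ⟨w * a⁻¹ * w⁻¹, invW _ (inv_mem ha), Or.inr (by
          rw [_root_.mul_inv_rev, inv_mul_cancel_right, hwi])⟩
  have hA0A : ∀ a ∈ A0, σ a ∈ A := fun a ha => (mem_commImage σ hab ft.1 ha).1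
  have hNker : σ.ker ⊓ N = ⊥ := by
    rw [eq_bot_iff]
    rintro n ⟨hn, hn'⟩
    obtain ⟨a, ha, rfl | rfl⟩ := hNmem n hn'
    · rw [← ker_inf_commImage σ hc hab ft]
      exact ⟨hn, ha⟩
    · exfalso
      apply hr2
      have h : σ a * σ w = 1 := (map_mul σ a w).symm.trans hn
      have h2 : σ w = (σ R ^ 2)⁻¹ := by
        rw [hww, map_mul, MonoidHom.mem_ker.1 hzk, mul_one, map_mul, map_inv, pow_two, _root_.mul_inv_rev]
      rw [h2, mul_inv_eq_one] at h
      exact h ▸ hA0A a ha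
  set V : Set Γ := (σ.ker : Set Γ) ∪ A0 ∪ {R, U} with hV
  have hpre : (closure (T ∪ {σ R, σ U})).comap σ ≤ closure V := by
    intro x hx
    have key : ∀ g ∈ closure (T ∪ {σ R, σ U}), ∃ y ∈ closure V, σ y = g := by
      intro g hg
      have : closure (T ∪ {σ R, σ U}) ≤ (closure V).map σ := by
        refine (closure_le _).2 ?_
        rintro u (hu | rfl | rfl)
        · obtain ⟨y, hy, rfl⟩ := map_commImage σ hσ hab ft (subset_closure hu)
          exact mem_map_of_mem σ (subset_closure (Or.inl (Or.inr hy)))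
        · exact mem_map_of_mem σ (subset_closure (Or.inr (Or.inl rfl)))
        · exact mem_map_of_mem σ (subset_closure (Or.inr (Or.inr rfl)))
      exact this hg
    obtain ⟨y, hy, ey⟩ := key _ hx
    rw [← mul_inv_cancel_left y x]
    exact mul_mem hy (subset_closure (Or.inl (Or.inl (MonoidHom.mem_ker.2 (by
      rw [map_mul, map_inv, ey, inv_mul_cancel])))))
  have hAN : A0 ≤ N := le_sup_left
  have hwN : w ∈ N := le_sup_right (α := Subgroup Γ) (mem_zpowers w)
  have nN : ∀ g : Γ, (∀ a ∈ A0, g * a * g⁻¹ ∈ N) → g * w * g⁻¹ ∈ N →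
      ∀ n, n ∈ N ↔ g * n * g⁻¹ ∈ N := by
    intro g hga hgw
    have hnorm : Normalises N g := by
      rw [hNdef, sup_eq_closure]
      refine normalises_closure ?_
      rw [← sup_eq_closure, ← hNdef]
      rintro n (hn | ⟨k, rfl⟩)
      · exact hga n hn
      · show g * w ^ k * g⁻¹ ∈ N
        rw [← conj_zpow]; exact zpow_mem hgw k
    exact fun n => ⟨hnorm n, fun h => by
      rw [show n = g⁻¹ * (g * n * g⁻¹) * g by group]; exact Normalises.inv hnorm _ h⟩
  have hle : ⁅closure V, closure V⁆ ≤ N := by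
    refine commutator_closure_le V N (fun g hg => ?_) fun g hg g' hg' => ?_
    · rcases hg with (hg | hg) | rfl | rfl
      · exact fun n => by rw [← Subgroup.mem_center_iff.1 (hc hg) n, mul_inv_cancel_right]
      · exact fun n => ⟨fun h => mul_mem (mul_mem (hAN hg) h) (inv_mem (hAN hg)), fun h => by
          rw [show n = g⁻¹ * (g * n * g⁻¹) * g by group]
          exact mul_mem (mul_mem (inv_mem (hAN hg)) h) (hAN hg)⟩
      · exact nN g (fun a ha => hAN (invR a ha)) (by rw [hwR]; exact hwN)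
      · exact nN g (fun a ha => hAN (invU a ha)) (by rw [hwU]; exact inv_mem hwN)
    · have hzero : ∀ u v : Γ, u ∈ σ.ker → ⁅u, v⁆ ∈ N := fun u v hu => by
        rw [commutatorElement_eq_one_iff_mul_comm.2 (Subgroup.mem_center_iff.1 (hc hu) v).symm]
        exact one_mem _
      have hmov : ∀ u, (∀ a ∈ A0, u * a * u⁻¹ ∈ A0) → ∀ a ∈ A0, ⁅u, a⁆ ∈ N := fun u hu a ha => by
        rw [commutatorElement_def]; exact hAN (mul_mem (hu a ha) (inv_mem ha))
      rcases hg' with (hg' | hg') | hg'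
      · rw [← commutatorElement_inv]; exact inv_mem (hzero _ _ hg')
      · rcases hg with (hg | hg) | rfl | rfl
        · exact hzero _ _ hg
        · rw [commutatorElement_eq_one_iff_mul_comm.2 (hab _ (hA0A g hg) _ (hA0A g' hg'))]
          exact one_mem _
        · exact hmov g invR g' hg'
        · exact hmov g invU g' hg'
      · rcases hg with (hg | hg) | rfl | rfl
        · exact hzero _ _ hg
        · rw [← commutatorElement_inv]
          rcases hg' with rfl | rfl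
          · exact inv_mem (hmov g' invR g hg)
          · exact inv_mem (hmov g' invU g hg)
        · rcases hg' with rfl | rfl
          · simp
          · rw [← commutatorElement_inv]; exact inv_mem hwN
        · rcases hg' with rfl | rfl
          · exact hwN
          · simp
  rw [eq_bot_iff, ← hNker]
  exact inf_le_inf_left _ ((commutator_mono hpre hpre).trans hle)

end Cfsg.Agent.Golay.Mult
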