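import Cfsg.Agent.Lib.Golay.Mult.Tables
import Cfsg.Agent.Lib.Golay.Mult.Split
import Cfsg.Agent.Lib.Schur.Basic

/-!
The Schur multiplier of M₂₃ is trivial.
-/

set_option autoImplicit false

namespace Cfsg.Agent.Golay.Mult

open Subgroup
open scoped commutatorElement

/-- A basis of the elementary abelian subgroup of order 16 fixing an octad. -/
def twoA : List (List ℕ) := [
  [0, 1, 2, 3, 6, 5, 4, 22, 20, 12, 11, 10, 9, 19, 14, 18, 21, 17, 15, 13, 8, 16, 7, 23],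
  [0, 1, 2, 3, 7, 5, 22, 4, 15, 11, 12, 9, 10, 21, 14, 8, 19, 17, 20, 16, 18, 13, 6, 23],
  [0, 1, 2, 3, 8, 5, 20, 15, 4, 21, 19, 13, 16, 11, 14, 7, 12, 17, 22, 10, 6, 9, 18, 23],
  [0, 1, 2, 3, 9, 5, 12, 11, 21, 4, 22, 7, 6, 15, 14, 13, 20, 17, 19, 18, 16, 8, 10, 23]]

/-- An element of order 4 of the complement. -/
def fourR : List ℕ := [0, 2, 1, 5, 4, 14, 21, 19, 15, 8, 18, 10, 9, 16, 17, 12, 13, 3, 20, 6, 11, 7, 22, 23]

/-- An involution inverting `fourR`. -/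
def twoS : List ℕ := [0, 1, 2, 5, 4, 3, 21, 19, 11, 10, 9, 8, 18, 13, 17, 20, 16, 14, 12, 7, 15, 6, 22, 23]

/-- A fixed-point-free element of order 3. -/
def fpfT : List ℕ := [0, 1, 2, 3, 4, 14, 15, 10, 21, 8, 12, 19, 7, 22, 17, 18, 13, 5, 6, 20, 11, 9, 16, 23]

/-- A link to its conjugate under `fourR`. -/
def fpfR : List ℕ := [1, 2, 0, 3, 4, 5, 8, 12, 20, 19, 7, 15, 10, 22, 14, 21, 13, 17, 9, 18, 6, 11, 16, 23]

/-- A link to its conjugate under `twoS`. -/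
def fpfS : List ℕ := [1, 2, 0, 3, 4, 5, 8, 12, 20, 19, 7, 15, 10, 22, 14, 21, 13, 17, 9, 18, 6, 11, 16, 23]

/-- The conjugate under `fourR`. -/
def fpfTR : List ℕ := [0, 1, 2, 14, 4, 5, 11, 8, 15, 19, 6, 10, 20, 16, 17, 7, 22, 3, 9, 18, 21, 12, 13, 23]

/-- The conjugate under `twoS`. -/
def fpfTS : List ℕ := [0, 1, 2, 17, 4, 5, 10, 15, 7, 18, 11, 6, 21, 22, 3, 8, 13, 14, 19, 9, 12, 20, 16, 23]

/-- Witnesses `x = a b a⁻¹ b⁻¹` with `a`, `b` centralising the second element. -/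
def witnesses : List (List (List ℕ)) := [
  [[0, 1, 2, 3, 6, 5, 4, 22, 20, 12, 11, 10, 9, 19, 14, 18, 21, 17, 15, 13, 8, 16, 7, 23], [0, 1, 2, 3, 7, 5, 22, 4, 15, 11, 12, 9, 10, 21, 14, 8, 19, 17, 20, 16, 18, 13, 6, 23], [0, 17, 5, 3, 22, 2, 7, 6, 8, 11, 12, 9, 10, 19, 14, 15, 21, 1, 18, 13, 20, 16, 4, 23], [0, 17, 5, 3, 11, 2, 10, 9, 16, 22, 4, 6, 7, 15, 14, 19, 20, 1, 13, 18, 21, 8, 12, 23], [0, 17, 5, 3, 22, 2, 7, 6, 8, 11, 12, 9, 10, 19, 14, 15, 21, 1, 18, 13, 20, 16, 4, 23], [0, 17, 5, 3, 10, 2, 11, 12, 21, 7, 6, 4, 22, 18, 14, 13, 8, 1, 19, 15, 16, 20, 9, 23]],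
  [[0, 1, 2, 3, 6, 5, 4, 22, 20, 12, 11, 10, 9, 19, 14, 18, 21, 17, 15, 13, 8, 16, 7, 23], [0, 1, 2, 3, 8, 5, 20, 15, 4, 21, 19, 13, 16, 11, 14, 7, 12, 17, 22, 10, 6, 9, 18, 23], [0, 1, 2, 3, 21, 5, 16, 13, 9, 8, 18, 15, 20, 7, 14, 11, 6, 17, 10, 22, 12, 4, 19, 23], [3, 5, 1, 14, 11, 17, 8, 19, 13, 22, 9, 15, 16, 7, 2, 10, 12, 0, 20, 21, 4, 18, 6, 23], [0, 1, 2, 3, 21, 5, 16, 13, 9, 8, 18, 15, 20, 7, 14, 11, 6, 17, 10, 22, 12, 4, 19, 23], [17, 2, 14, 0, 20, 1, 22, 13, 6, 10, 15, 4, 16, 8, 3, 11, 12, 5, 21, 7, 18, 19, 9, 23]],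
  [[0, 1, 2, 3, 6, 5, 4, 22, 20, 12, 11, 10, 9, 19, 14, 18, 21, 17, 15, 13, 8, 16, 7, 23], [0, 1, 2, 3, 9, 5, 12, 11, 21, 4, 22, 7, 6, 15, 14, 13, 20, 17, 19, 18, 16, 8, 10, 23], [14, 17, 5, 0, 15, 1, 12, 4, 22, 13, 18, 9, 6, 16, 2, 20, 8, 3, 11, 7, 21, 10, 19, 23], [3, 5, 14, 17, 13, 2, 20, 22, 6, 15, 4, 10, 16, 8, 0, 21, 7, 1, 18, 19, 11, 12, 9, 23], [3, 5, 14, 17, 7, 2, 12, 19, 16, 11, 21, 18, 6, 9, 0, 4, 13, 1, 10, 22, 15, 20, 8, 23], [14, 17, 5, 0, 10, 1, 8, 16, 13, 22, 11, 20, 21, 4, 2, 9, 12, 3, 18, 19, 6, 15, 7, 23]],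
  [[0, 1, 2, 3, 7, 5, 22, 4, 15, 11, 12, 9, 10, 21, 14, 8, 19, 17, 20, 16, 18, 13, 6, 23], [0, 1, 2, 3, 8, 5, 20, 15, 4, 21, 19, 13, 16, 11, 14, 7, 12, 17, 22, 10, 6, 9, 18, 23], [14, 5, 17, 0, 22, 2, 19, 8, 18, 12, 7, 13, 20, 11, 1, 4, 6, 3, 21, 15, 10, 16, 9, 23], [2, 3, 14, 5, 12, 0, 19, 6, 16, 13, 4, 15, 9, 7, 17, 20, 21, 1, 22, 8, 10, 11, 18, 23], [3, 14, 5, 17, 15, 1, 16, 10, 7, 22, 20, 13, 9, 11, 0, 19, 21, 2, 8, 6, 12, 18, 4, 23], [5, 17, 0, 1, 10, 3, 7, 13, 19, 12, 20, 21, 4, 9, 2, 11, 8, 14, 22, 6, 15, 16, 18, 23]],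
  [[0, 1, 2, 3, 7, 5, 22, 4, 15, 11, 12, 9, 10, 21, 14, 8, 19, 17, 20, 16, 18, 13, 6, 23], [0, 1, 2, 3, 9, 5, 12, 11, 21, 4, 22, 7, 6, 15, 14, 13, 20, 17, 19, 18, 16, 8, 10, 23], [14, 2, 0, 5, 12, 17, 22, 20, 8, 6, 18, 16, 10, 4, 3, 9, 15, 1, 7, 11, 13, 21, 19, 23], [2, 17, 1, 14, 10, 3, 16, 7, 6, 22, 21, 11, 20, 4, 0, 9, 19, 5, 13, 15, 18, 12, 8, 23], [2, 17, 1, 14, 13, 3, 9, 18, 8, 15, 12, 19, 4, 20, 0, 16, 11, 5, 10, 22, 7, 21, 6, 23], [14, 2, 0, 5, 13, 17, 8, 7, 22, 15, 4, 11, 21, 18, 3, 19, 6, 1, 20, 16, 12, 10, 9, 23]],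
  [[0, 1, 2, 3, 8, 5, 20, 15, 4, 21, 19, 13, 16, 11, 14, 7, 12, 17, 22, 10, 6, 9, 18, 23], [0, 1, 2, 3, 9, 5, 12, 11, 21, 4, 22, 7, 6, 15, 14, 13, 20, 17, 19, 18, 16, 8, 10, 23], [3, 5, 14, 17, 22, 2, 9, 13, 21, 10, 16, 15, 4, 12, 0, 6, 19, 1, 11, 7, 18, 8, 20, 23], [2, 3, 1, 14, 4, 17, 8, 22, 11, 9, 19, 10, 21, 6, 5, 12, 15, 0, 16, 20, 13, 7, 18, 23], [14, 17, 5, 0, 12, 1, 15, 19, 21, 6, 9, 18, 13, 7, 2, 11, 10, 3, 20, 16, 22, 8, 4, 23], [17, 2, 0, 1, 4, 14, 13, 21, 6, 9, 11, 8, 15, 20, 3, 16, 18, 5, 22, 10, 19, 12, 7, 23]],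
  [[0, 1, 2, 5, 4, 3, 21, 19, 11, 10, 9, 8, 18, 13, 17, 20, 16, 14, 12, 7, 15, 6, 22, 23], [0, 1, 2, 14, 4, 17, 7, 6, 12, 15, 20, 18, 8, 13, 3, 9, 16, 5, 11, 21, 10, 19, 22, 23], [4, 2, 13, 6, 16, 8, 10, 20, 11, 9, 5, 21, 18, 0, 7, 15, 22, 12, 19, 14, 17, 3, 1, 23], [16, 13, 0, 11, 22, 10, 6, 7, 3, 8, 9, 21, 14, 4, 18, 12, 1, 20, 19, 17, 15, 5, 2, 23], [13, 22, 1, 21, 0, 10, 3, 14, 5, 9, 6, 8, 17, 2, 19, 15, 4, 20, 12, 18, 7, 11, 16, 23], [2, 16, 22, 8, 13, 21, 6, 7, 9, 10, 5, 3, 15, 1, 12, 20, 0, 19, 14, 18, 17, 11, 4, 23]]]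

/-- An element of order 3 of M₂₃. -/
def three23A : List ℕ := [11, 1, 2, 4, 18, 7, 6, 20, 21, 19, 22, 16, 10, 8, 14, 15, 0, 9, 3, 17, 5, 13, 12, 23]

/-- A second element of order 3. -/
def three23B : List ℕ := [16, 1, 2, 12, 10, 7, 14, 20, 4, 9, 8, 0, 13, 3, 15, 6, 11, 17, 22, 19, 5, 18, 21, 23]

/-- An element centralising the first and inverting the second. -/
def three23N : List ℕ := [5, 2, 1, 3, 4, 0, 15, 11, 10, 9, 8, 7, 13, 12, 14, 6, 20, 17, 18, 19, 16, 22, 21, 23]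

/-- A table of an element of M₂₃. -/
def ok23 (l : List ℕ) : Bool :=
  isPermTab l && checkAut l && l.getD 23 0 == 23 && l.length == 24

/-- `g` normalises the group generated by `twoA`. -/
def normCheck (g : List ℕ) : Bool :=
  twoA.all fun t => (allProd twoA).any fun e => comp g t == comp e g

/-- `g` is fixed-point-free on that group. -/
def fpfCheck (g : List ℕ) : Bool :=
  normCheck g && (allProd twoA).all fun e => comp g e != comp e g || e == idTab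

/-- All tables used. -/
def all23 : List (List ℕ) :=
  twoA ++ [fourR, twoS, fpfT, fpfR, fpfS, fpfTR, fpfTS, three23A, three23B, three23N] ++
    witnesses.flatten

/-- Generators of a Sylow 2-subgroup of M₂₃. -/
def sylTwo : List (List ℕ) := twoA ++ [powTab fourR 2, fourR, twoS]

theorem m23_facts :
    all23.all ok23 = true ∧
    witnesses.all (fun w => witCheck (w.getD 0 []) (w.getD 1 []) (w.getD 2 []) (w.getD 3 [])
      (w.getD 4 []) (w.getD 5 [])) = true ∧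
    (∀ i : Fin 4, ∀ j : Fin 4, i < j → ∃ w ∈ witnesses,
      w.getD 0 [] = twoA.getD i.val [] ∧ w.getD 1 [] = twoA.getD j.val []) ∧
    (∃ w ∈ witnesses, w.getD 0 [] = twoS ∧ w.getD 1 [] = powTab fourR 2) ∧
    ((normCheck fourR && normCheck twoS) = true ∧
      [fpfT, fpfR, fpfS, fpfTR, fpfTS].all fpfCheck = true) ∧
    (comp fpfTR fourR = comp fourR fpfT ∧ comp fpfTS twoS = comp twoS fpfT ∧
      comp fpfT fpfR = comp fpfR fpfT ∧ comp fpfR fpfTR = comp fpfTR fpfR ∧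
      comp fpfT fpfS = comp fpfS fpfT ∧ comp fpfS fpfTS = comp fpfTS fpfS) ∧
    (powTab fourR 4 = idTab ∧ comp twoS twoS = idTab ∧
      comp twoS fourR = comp (powTab fourR 3) twoS ∧
      (allProd twoA).contains (powTab fourR 2) = false) ∧
    ((allProd twoA).all (fun e => twoA.all fun t => (allProd twoA).contains (comp e t)) = true ∧
      (allProd twoA).Nodup ∧ (allProd twoA).all (fun e => e.length == 24) = true ∧
      (allProd twoA).contains idTab = true) ∧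
    ((allProd sylTwo).all (fun e => sylTwo.all fun t => (allProd sylTwo).contains (comp e t)) = true ∧
      (allProd sylTwo).Nodup ∧ (allProd sylTwo).all (fun e => e.length == 24) = true ∧
      (allProd sylTwo).contains idTab = true ∧ (allProd sylTwo).length = 128) ∧
    threeCheck three23A three23B three23N = true ∧
    (three23A ≠ idTab ∧ three23B ≠ idTab ∧ three23B ≠ three23A ∧
      three23B ≠ powTab three23A 2) ∧ (three23A.length = 24 ∧ three23B.length = 24) := by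
  decide +kernel

theorem exists_M23 {l : List ℕ} (h : l ∈ all23) : ∃ g : Spor.M23, Tab g.1 l := by
  have h := List.all_eq_true.1 m23_facts.1 l h
  simp only [ok23, Bool.and_eq_true, beq_iff_eq] at h
  obtain ⟨⟨⟨hp, hc⟩, h23⟩, -⟩ := h
  refine ⟨⟨permOf l hp, ?_⟩, tab_permOf hp⟩
  rw [M23_eq, mem_fixUpTo]
  refine ⟨(tab_permOf hp).mem_M24 hc, fun j hj => ?_⟩
  obtain rfl : j = 0 := by omega
  rw [show bp 0 = pt 23 from rfl]
  exact (tab_permOf hp).apply_pt (by norm_num) h23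

theorem length_of_mem_all23 {l : List ℕ} (h : l ∈ all23) : l.length = 24 := by
  have h := List.all_eq_true.1 m23_facts.1 l h
  simp only [ok23, Bool.and_eq_true, beq_iff_eq] at h
  exact h.2

theorem comm_of_witness {Γ : Type} [Group Γ] (σ : Γ →* Spor.M23) (hσ : Function.Surjective σ)
    (hc : σ.ker ≤ center Γ) {w : List (List ℕ)} (hw : w ∈ witnesses) {x y : Γ}
    (hx : Tab (σ x).1 (w.getD 0 [])) (hy : Tab (σ y).1 (w.getD 1 [])) : ⁅x, y⁆ = 1 := by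
  have h := List.all_eq_true.1 m23_facts.2.1 w hw
  have hlen : ∀ u ∈ witnesses, u.length = 6 := by decide +kernel
  have hm : ∀ k < 6, w.getD k [] ∈ all23 := fun k hk => by
    refine List.mem_append_right _ (List.mem_flatten.2 ⟨w, hw, ?_⟩)
    rw [List.getD_eq_getElem _ _ (by rw [hlen w hw]; exact hk)]
    exact List.getElem_mem _
  exact comm_of_witCheck σ hσ hc hx hy (exists_M23 (hm 2 (by norm_num)))
    (exists_M23 (hm 3 (by norm_num))) (exists_M23 (hm 4 (by norm_num)))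
    (exists_M23 (hm 5 (by norm_num))) h

/-- The elementary abelian subgroup of order 16. -/
abbrev octGroup : Subgroup Spor.M23 := closure (tabSet Spor.M23 twoA)

theorem mem_octGroup {g : Spor.M23} : g ∈ octGroup ↔ ∃ e ∈ allProd twoA, Tab g.1 e := by
  obtain ⟨-, -, -, -, -, -, -, ⟨hcl, hnd, hlen, hid⟩, -⟩ := m23_facts
  exact (card_closure_tabSet twoA (fun t ht => exists_M23
    (List.mem_append_left _ (List.mem_append_left _ ht))) hcl hnd hlen hid).2 g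

theorem normalises_of_check {g : Spor.M23} {l : List ℕ} (hg : Tab g.1 l)
    (h : normCheck l = true) : Normalises octGroup g := by
  refine normalises_closure fun t ⟨lt, hlt, tt⟩ => mem_octGroup.2 ?_
  simp only [normCheck, List.all_eq_true, List.any_eq_true, beq_iff_eq] at h
  obtain ⟨e, he, hee⟩ := h lt hlt
  obtain ⟨y, hy, hye⟩ := allProd_mem (H := Spor.M23) octGroup twoA (fun u hu => by
    obtain ⟨v, hv⟩ := exists_M23 (List.mem_append_left _ (List.mem_append_left _ hu))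
    exact ⟨v, subset_closure ⟨u, hu, hv⟩, hv⟩) e he
  refine ⟨e, he, ?_⟩
  rw [show g * t * g⁻¹ = y by
    rw [mul_inv_eq_iff_eq_mul]
    exact eq_of_tab (hee ▸ tab_coe_mul hg tt) (tab_coe_mul hye hg)]
  exact hye

theorem fpf_of_check {g : Spor.M23} {l : List ℕ} (hg : Tab g.1 l)
    (h : fpfCheck l = true) : Fpf octGroup g := by
  simp only [fpfCheck, Bool.and_eq_true, List.all_eq_true, Bool.or_eq_true, bne_iff_ne,
    beq_iff_eq] at h
  refine ⟨normalises_of_check hg h.1, fun a ha hfix => ?_⟩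
  obtain ⟨e, he, hae⟩ := mem_octGroup.1 ha
  rw [mul_inv_eq_iff_eq_mul] at hfix
  have h1 : Tab (g * a).1 (comp e l) := by rw [hfix]; exact tab_coe_mul hae hg
  have h2 := tab_getD_eq (tab_coe_mul hg hae) h1 (by simp [comp]) (by simp [comp])
  exact eq_one_of_tab ((h.2 e he).resolve_left (fun hne => hne h2) ▸ hae)

theorem stem_trivial_M23 {Γ : Type} [Group Γ] [Finite Γ] (σ : Γ →* Spor.M23)
    (hσ : Cfsg.IsStemExtension σ) : σ.ker = ⊥ := by
  obtain ⟨hσs, hc, hcomm⟩ := hσ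
  obtain ⟨-, -, hpairs, ⟨ws, hws, ws0, ws1⟩, ⟨hnorm, hfpf⟩, ⟨c1, c2, c3, c4, c5, c6⟩,
    ⟨hr4, hs2, hsr, hr2A⟩, -, ⟨hcl, hnd, hl24, hid, h128⟩, hthree, ⟨n0, n1, n2, n3⟩, hlen⟩ :=
    m23_facts
  simp only [Bool.and_eq_true] at hnorm
  simp only [List.all_cons, List.all_nil, Bool.and_true, Bool.and_eq_true] at hfpf
  obtain ⟨fT, fR, fS, fTR, fTS⟩ := hfpf
  have mA : ∀ u ∈ twoA, u ∈ all23 := fun u hu => List.mem_append_left _ (List.mem_append_left _ hu)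
  have mL : ∀ u ∈ [fourR, twoS, fpfT, fpfR, fpfS, fpfTR, fpfTS, three23A, three23B, three23N],
      u ∈ all23 := fun u hu => List.mem_append_left _ (List.mem_append_right _ hu)
  refine Cfsg.Agent.KnownSimple.ker_eq_bot_of_local σ ⟨hσs, hc, hcomm⟩ fun ℓ hℓ => ?_
  by_cases h3 : ℓ = 3
  · subst h3
    exact exists_local_three σ hσs hc (exists_M23 (mL _ (by simp))) (exists_M23 (mL _ (by simp)))
      (exists_M23 (mL _ (by simp))) hthree (by rw [card_M23]; norm_num) n0 ⟨n1, n2, n3⟩ hlen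
  by_cases h2 : ℓ = 2
  · subst h2
    obtain ⟨r, tr⟩ := exists_M23 (mL fourR (by simp))
    obtain ⟨s, ts⟩ := exists_M23 (mL twoS (by simp))
    obtain ⟨t, tt⟩ := exists_M23 (mL fpfT (by simp))
    obtain ⟨r1, tr1⟩ := exists_M23 (mL fpfR (by simp))
    obtain ⟨s1, ts1⟩ := exists_M23 (mL fpfS (by simp))
    obtain ⟨rt, trt⟩ := exists_M23 (mL fpfTR (by simp))
    obtain ⟨st, tst⟩ := exists_M23 (mL fpfTS (by simp))
    have ert : r * t * r⁻¹ = rt := by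
      rw [mul_inv_eq_iff_eq_mul]
      have h := tab_coe_mul tr tt
      rw [← c1] at h
      exact eq_of_tab h (tab_coe_mul trt tr)
    have est : s * t * s⁻¹ = st := by
      rw [mul_inv_eq_iff_eq_mul]
      have h := tab_coe_mul ts tt
      rw [← c2] at h
      exact eq_of_tab h (tab_coe_mul tst ts)
    have er : r ^ 4 = 1 := eq_one_of_tab (hr4 ▸ tab_coe_pow tr 4)
    have es : s * s = 1 := eq_one_of_tab (hs2 ▸ tab_coe_mul ts ts)
    have er3 : r⁻¹ = r ^ 3 := inv_eq_of_mul_eq_one_right (by rw [← pow_succ']; exact er)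
    have esr : s * r * s⁻¹ = r⁻¹ := by
      rw [mul_inv_eq_iff_eq_mul, er3]
      exact eq_of_tab (hsr ▸ tab_coe_mul ts tr) (tab_coe_mul (tab_coe_pow tr 3) ts)
    have er2 : r ^ 2 ∉ octGroup := by
      intro h
      obtain ⟨e, he, hee⟩ := mem_octGroup.1 h
      have hl : ∀ e ∈ allProd twoA, e.length = 24 := by decide +kernel
      have h2 := tab_getD_eq (tab_coe_pow tr 2) hee (by simp [powTab, comp]) (hl e he)
      rw [← h2, ← List.contains_iff_mem, hr2A] at he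
      exact Bool.false_ne_true he
    have hT : ∀ x y : Γ, σ x ∈ tabSet Spor.M23 twoA → σ y ∈ tabSet Spor.M23 twoA → ⁅x, y⁆ = 1 := by
      rintro x y ⟨lx, hlx, hx⟩ ⟨ly, hly, hy⟩
      rw [List.mem_iff_getElem] at hlx hly
      obtain ⟨i, hi, rfl⟩ := hlx
      obtain ⟨j, hj, rfl⟩ := hly
      have hi4 : i < 4 := hi
      have hj4 : j < 4 := hj
      rcases lt_trichotomy i j with h | rfl | h
      · obtain ⟨w, hw, w0, w1⟩ := hpairs ⟨i, hi4⟩ ⟨j, hj4⟩ h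
        refine comm_of_witness σ hσs hc hw ?_ ?_
        · rw [w0, List.getD_eq_getElem _ _ hi]; exact hx
        · rw [w1, List.getD_eq_getElem _ _ hj]; exact hy
      · rw [comm_congr σ hc (x' := x) (y' := x) rfl (eq_of_tab hy hx), commutatorElement_self]
      · obtain ⟨w, hw, w0, w1⟩ := hpairs ⟨j, hj4⟩ ⟨i, hi4⟩ h
        rw [← commutatorElement_inv, inv_eq_one]
        refine comm_of_witness σ hσs hc hw ?_ ?_
        · rw [w0, List.getD_eq_getElem _ _ hj]; exact hy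
        · rw [w1, List.getD_eq_getElem _ _ hi]; exact hx
    refine ⟨closure (tabSet Spor.M23 twoA ∪ {r, s}), ?_,
      inf_commutator_eq_bot_of_split σ hσs hc _ hT er es esr er2 (fun x y hx hy => ?_)
        (normalises_of_check tr hnorm.1) (normalises_of_check ts hnorm.2) (fpf_of_check tt fT)
        (fpf_of_check tr1 fR) (fpf_of_check ts1 fS) (ert ▸ fpf_of_check trt fTR)
        (est ▸ fpf_of_check tst fTS)
        (eq_of_tab (c3 ▸ tab_coe_mul tt tr1) (tab_coe_mul tr1 tt))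
        (by rw [ert]; exact eq_of_tab (c4 ▸ tab_coe_mul tr1 trt) (tab_coe_mul trt tr1))
        (eq_of_tab (c5 ▸ tab_coe_mul tt ts1) (tab_coe_mul ts1 tt))
        (by rw [est]; exact eq_of_tab (c6 ▸ tab_coe_mul ts1 tst) (tab_coe_mul tst ts1))⟩
    · set S := closure (tabSet Spor.M23 twoA ∪ {r, s}) with hS
      have hT2 : ∀ u ∈ sylTwo, ∃ g ∈ S, Tab g.1 u := by
        intro u hu
        rcases List.mem_append.1 hu with hu | hu
        · obtain ⟨g, hg⟩ := exists_M23 (mA u hu)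
          exact ⟨g, subset_closure (Or.inl ⟨u, hu, hg⟩), hg⟩
        · simp only [List.mem_cons, List.not_mem_nil, or_false] at hu
          rcases hu with rfl | rfl | rfl
          · exact ⟨_, pow_mem (subset_closure (by simp)) 2, tab_coe_pow tr 2⟩
          · exact ⟨r, subset_closure (by simp), tr⟩
          · exact ⟨s, subset_closure (by simp), ts⟩
      have hle : closure (tabSet Spor.M23 sylTwo) ≤ S :=
        (closure_le _).2 fun g ⟨u, hu, hgu⟩ => by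
          obtain ⟨g', hg', hgu'⟩ := hT2 u hu
          exact eq_of_tab hgu hgu' ▸ hg'
      obtain ⟨hcard, -⟩ := card_closure_tabSet (H := Spor.M23) sylTwo
        (fun u hu => by obtain ⟨g, -, hg⟩ := hT2 u hu; exact ⟨g, hg⟩) hcl hnd hl24 hid
      intro hdvd
      have h := (Nat.mul_dvd_mul_left 128 hdvd).trans
        (Nat.mul_dvd_mul_right ((hcard.trans h128) ▸ Subgroup.card_dvd_of_le hle) _)
      rw [Subgroup.card_mul_index, card_M23] at h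
      norm_num at h
    · refine comm_of_witness σ hσs hc hws ?_ ?_
      · rw [ws0, hx]; exact ts
      · rw [ws1, hy]; exact tab_coe_pow tr 2
  refine exists_local_of_sq_not_dvd σ hσs hc hℓ fun hsq => ?_
  rw [card_M23] at hsq
  have hd : ℓ ∣ 2 ^ 7 * (3 ^ 2 * (5 * (7 * (11 * 23)))) := (dvd_pow_self ℓ two_ne_zero).trans hsq
  have key : ℓ = 2 ∨ ℓ = 3 ∨ ℓ = 5 ∨ ℓ = 7 ∨ ℓ = 11 ∨ ℓ = 23 := by
    have hp : ∀ q : ℕ, q.Prime → ℓ ∣ q → ℓ = q := fun q hq h => (Nat.prime_dvd_prime_iff_eq hℓ hq).1 h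
    rcases hℓ.dvd_mul.1 hd with h | h
    · exact Or.inl (hp 2 Nat.prime_two (hℓ.dvd_of_dvd_pow h))
    rcases hℓ.dvd_mul.1 h with h | h
    · exact Or.inr (Or.inl (hp 3 Nat.prime_three (hℓ.dvd_of_dvd_pow h)))
    rcases hℓ.dvd_mul.1 h with h | h
    · exact Or.inr (Or.inr (Or.inl (hp 5 (by norm_num) h)))
    rcases hℓ.dvd_mul.1 h with h | h
    · exact Or.inr (Or.inr (Or.inr (Or.inl (hp 7 (by norm_num) h))))
    rcases hℓ.dvd_mul.1 h with h | h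
    · exact Or.inr (Or.inr (Or.inr (Or.inr (Or.inl (hp 11 (by norm_num) h)))))
    · exact Or.inr (Or.inr (Or.inr (Or.inr (Or.inr (hp 23 (by norm_num) h)))))
  rcases key with rfl | rfl | rfl | rfl | rfl | rfl
  · exact h2 rfl
  · exact h3 rfl
  all_goals norm_num at hsq

theorem hasCyclicSchurMultiplier_M23 : Cfsg.HasCyclicSchurMultiplier Spor.M23 1 :=
  Cfsg.Agent.Schur.hasCyclicSchurMultiplier_one_of_forall fun _ _ _ σ hσ => stem_trivial_M23 σ hσ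

end Cfsg.Agent.Golay.Mult
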