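import Mathlib.GroupTheory.GroupAction.Basic
import Mathlib.GroupTheory.Commutator.Basic
import Mathlib.GroupTheory.Abelianization.Defs
import Mathlib.Tactic

/-!
A central extension of a group with a 3-transitive action which splits over a point stabiliser
splits on commutators, up to the twist coming from the two-point stabiliser: the double coset
decomposition gives a two-cochain on pairs of points, constant on triangles, hence a retraction.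
-/

set_option autoImplicit false
set_option maxHeartbeats 800000

namespace Cfsg.Agent.Golay.Mult

open Subgroup

universe u v w t

theorem kills_of_three_transitive {Γ : Type u} [Group Γ] {G : Type v} [Group G] {X : Type w}
    [MulAction G X] (σ : Γ →* G) (hσ : Function.Surjective σ) (hc : σ.ker ≤ center Γ)
    (x0 x1 x2 : X) (h10 : x1 ≠ x0) (h20 : x2 ≠ x0) (h21 : x2 ≠ x1)
    (hpre : ∀ a : X, ∃ h : G, h • x0 = a)
    (htr : ∀ a b a' b' : X, a ≠ x0 → b ≠ x0 → a ≠ b → a' ≠ x0 → b' ≠ x0 → a' ≠ b' →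
      ∃ h : G, h • x0 = x0 ∧ h • a = a' ∧ h • b = b')
    {A : Type t} [CommGroup A] (π : σ.ker →* A)
    (L : Subgroup Γ) (hL : ∀ l ∈ L, σ l • x0 = x0) (hLs : ∀ h : G, h • x0 = x0 → ∃ l ∈ L, σ l = h)
    (hLk : σ.ker ⊓ L = ⊥) (g : Γ) (hg : σ g • x0 = x1)
    (hθ : ∀ l ∈ L, ∀ l' ∈ L, ∀ z : σ.ker, g⁻¹ * l * g = l' * z → π z = 1)
    (z : σ.ker) (hz : (z : Γ) ∈ commutator Γ) : π z = 1 := by
  classical
  have hzc : ∀ (k : σ.ker) (γ : Γ), γ * k = k * γ := fun k γ =>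
    Subgroup.mem_center_iff.1 (hc k.2) γ
  have hk1 : ∀ k : σ.ker, σ k = 1 := fun k => k.2
  have hmove : ∀ {γ : Γ}, σ γ • x0 ≠ x0 → ∀ a : X, a ≠ x0 → σ γ • a ≠ σ γ • x0 := fun _ a ha e =>
    ha (MulAction.injective _ e)
  -- double coset coordinates
  let Rel : Γ → A → Prop := fun γ a => ∃ l ∈ L, ∃ l' ∈ L, ∃ k : σ.ker, γ = l * g * l' * k ∧ π k = a
  have rel_unique : ∀ γ a b, Rel γ a → Rel γ b → a = b := by
    rintro γ _ _ ⟨l, hl, l', hl', k, e, rfl⟩ ⟨m, hm, m', hm', n, e', rfl⟩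
    have h := hθ (m⁻¹ * l) (L.mul_mem (L.inv_mem hm) hl) (m' * l'⁻¹)
      (L.mul_mem hm' (L.inv_mem hl')) (n * k⁻¹) (by
        have e2 : l * g = m * g * m' * n * (k : Γ)⁻¹ * l'⁻¹ := by
          rw [← e', e]; group
        rw [show g⁻¹ * (m⁻¹ * l) * g = g⁻¹ * m⁻¹ * (l * g) by group, e2, Subgroup.coe_mul,
          Subgroup.coe_inv]
        calc g⁻¹ * m⁻¹ * (m * g * m' * n * (k : Γ)⁻¹ * l'⁻¹)
            = m' * (((n * k⁻¹ : σ.ker) : Γ) * l'⁻¹) := by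
              rw [Subgroup.coe_mul, Subgroup.coe_inv]; group
          _ = m' * (l'⁻¹ * ((n * k⁻¹ : σ.ker) : Γ)) := by rw [hzc]
          _ = _ := by rw [Subgroup.coe_mul, Subgroup.coe_inv]; group)
    rw [map_mul, map_inv] at h
    exact (mul_inv_eq_one.1 h).symm
  have rel_exists : ∀ γ, σ γ • x0 ≠ x0 → ∃ a, Rel γ a := by
    intro γ hγ
    obtain ⟨p, hp0, hp⟩ : ∃ p, p ≠ x0 ∧ p ≠ σ γ • x0 := by
      by_cases e : x1 = σ γ • x0
      · exact ⟨x2, h20, e ▸ h21⟩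
      · exact ⟨x1, h10, e⟩
    obtain ⟨h, h0, hh, -⟩ := htr x1 x2 (σ γ • x0) p h10 h20 h21.symm hγ hp0 hp.symm
    obtain ⟨l, hl, rfl⟩ := hLs h h0
    have hfix : σ (g⁻¹ * l⁻¹ * γ) • x0 = x0 := by
      rw [map_mul, map_mul, map_inv, map_inv, mul_smul, mul_smul, inv_smul_eq_iff, inv_smul_eq_iff,
        hg, hh]
    obtain ⟨l', hl', e⟩ := hLs _ hfix
    have hk : l'⁻¹ * g⁻¹ * l⁻¹ * γ ∈ σ.ker := by
      rw [MonoidHom.mem_ker, show l'⁻¹ * g⁻¹ * l⁻¹ * γ = l'⁻¹ * (g⁻¹ * l⁻¹ * γ) by group, map_mul,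
        map_inv, ← e, inv_mul_cancel]
    exact ⟨_, l, hl, l', hl', ⟨_, hk⟩, by group, rfl⟩
  let e : Γ → A := fun γ => if h : σ γ • x0 ≠ x0 then (rel_exists γ h).choose else 1
  have he : ∀ γ, σ γ • x0 ≠ x0 → Rel γ (e γ) := fun γ h => by
    simp only [e, dif_pos h]
    exact (rel_exists γ h).choose_spec
  have he' : ∀ γ, σ γ • x0 ≠ x0 → ∀ m ∈ L, ∀ m' ∈ L, ∀ k : σ.ker,
      σ (m * γ * m' * k) • x0 ≠ x0 ∧ e (m * γ * m' * k) = e γ * π k := by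
    intro γ hγ m hm m' hm' k
    have hne : σ (m * γ * m' * k) • x0 ≠ x0 := by
      rw [map_mul, map_mul, map_mul, hk1, mul_one, mul_smul, mul_smul, hL m' hm']
      intro e1
      exact hγ (MulAction.injective (σ m) (e1.trans (hL m hm).symm))
    refine ⟨hne, rel_unique _ _ _ (he _ hne) ?_⟩
    obtain ⟨l, hl, l', hl', n, en, ea⟩ := he γ hγ
    refine ⟨m * l, L.mul_mem hm hl, l' * m', L.mul_mem hl' hm', n * k, ?_, by rw [map_mul, ea]⟩
    rw [en, Subgroup.coe_mul]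
    calc m * (l * g * l' * n) * m' * k = m * l * g * l' * ((n : Γ) * m') * k := by group
      _ = m * l * g * l' * (m' * n) * k := by rw [← hzc n m']
      _ = _ := by group
  -- constancy on triangles
  have tri : ∀ γ δ γ' δ' : Γ, σ γ • x0 ≠ x0 → σ δ • x0 ≠ x0 → σ (γ * δ) • x0 ≠ x0 →
      σ γ' • x0 ≠ x0 → σ δ' • x0 ≠ x0 → σ (γ' * δ') • x0 ≠ x0 →
      e γ' * e δ' * e (γ * δ) = e γ * e δ * e (γ' * δ') := by
    intro γ δ γ' δ' a1 a2 a3 b1 b2 b3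
    have d1 : σ γ • x0 ≠ σ (γ * δ) • x0 := by
      rw [map_mul, mul_smul]
      exact (hmove a1 _ a2).symm
    have d2 : σ γ' • x0 ≠ σ (γ' * δ') • x0 := by
      rw [map_mul, mul_smul]
      exact (hmove b1 _ b2).symm
    obtain ⟨h, h0, h1, h2⟩ := htr _ _ _ _ a1 a3 d1 b1 b3 d2
    obtain ⟨l, hl, rfl⟩ := hLs h h0
    have f1 : σ (γ⁻¹ * l⁻¹ * γ') • x0 = x0 := by
      rw [map_mul, map_mul, map_inv, map_inv, mul_smul, mul_smul, inv_smul_eq_iff, inv_smul_eq_iff, h1]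
    have f2 : σ ((γ * δ)⁻¹ * l⁻¹ * (γ' * δ')) • x0 = x0 := by
      rw [map_mul, map_mul, map_inv, map_inv, mul_smul, mul_smul, inv_smul_eq_iff, inv_smul_eq_iff, h2]
    obtain ⟨l1, hl1, e1⟩ := hLs _ f1
    obtain ⟨l2, hl2, e2⟩ := hLs _ f2
    have k1m : l1⁻¹ * (γ⁻¹ * l⁻¹ * γ') ∈ σ.ker := by
      rw [MonoidHom.mem_ker, map_mul, map_inv, ← e1, inv_mul_cancel]
    have k2m : l2⁻¹ * ((γ * δ)⁻¹ * l⁻¹ * (γ' * δ')) ∈ σ.ker := by
      rw [MonoidHom.mem_ker, map_mul, map_inv, ← e2, inv_mul_cancel]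
    set k1 : σ.ker := ⟨_, k1m⟩ with hk1'
    set k2 : σ.ker := ⟨_, k2m⟩ with hk2'
    have g1 : γ' = l * γ * l1 * k1 := by simp only [hk1']; group
    have g3 : γ' * δ' = l * (γ * δ) * l2 * k2 := by simp only [hk2']; group
    have g2 : δ' = l1⁻¹ * δ * l2 * ((k2 * k1⁻¹ : σ.ker) : Γ) := by
      have : δ' = γ'⁻¹ * (γ' * δ') := by group
      rw [this, g3, g1, Subgroup.coe_mul, Subgroup.coe_inv]
      calc (l * γ * l1 * (k1 : Γ))⁻¹ * (l * (γ * δ) * l2 * k2)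
          = (k1⁻¹ : σ.ker) * (l1⁻¹ * δ * l2 * k2) := by rw [Subgroup.coe_inv]; group
        _ = (l1⁻¹ * δ * l2 * k2) * (k1⁻¹ : σ.ker) := (hzc _ _).symm
        _ = _ := by rw [Subgroup.coe_inv]; group
    have q1 := (he' γ a1 l hl l1 hl1 k1).2
    have q2 := (he' δ a2 l1⁻¹ (L.inv_mem hl1) l2 hl2 (k2 * k1⁻¹)).2
    have q3 := (he' (γ * δ) a3 l hl l2 hl2 k2).2
    rw [← g1] at q1
    rw [← g2] at q2
    rw [← g3] at q3
    rw [q1, q2, q3, map_mul, map_inv]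
    calc e γ * π k1 * (e δ * (π k2 * (π k1)⁻¹)) * e (γ * δ)
        = e γ * e δ * (e (γ * δ) * π k2) * (π k1 * (π k1)⁻¹) := by ac_rfl
      _ = _ := by rw [mul_inv_cancel, mul_one]
  obtain ⟨d, hd⟩ : ∃ d : Γ, σ d • x0 = (σ g)⁻¹ • x2 := by
    obtain ⟨h, hh⟩ := hpre ((σ g)⁻¹ • x2)
    obtain ⟨d, rfl⟩ := hσ h
    exact ⟨d, hh⟩
  have hg' : σ g • x0 ≠ x0 := hg ▸ h10
  have hd' : σ d • x0 ≠ x0 := by
    rw [hd]
    intro h
    rw [inv_smul_eq_iff, hg] at h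
    exact h21 h
  have hgd : σ (g * d) • x0 ≠ x0 := by rw [map_mul, mul_smul, hd, smul_inv_smul]; exact h20
  set c := e g * e d / e (g * d) with hcdef
  have tric : ∀ γ δ : Γ, σ γ • x0 ≠ x0 → σ δ • x0 ≠ x0 → σ (γ * δ) • x0 ≠ x0 →
      e γ * e δ = c * e (γ * δ) := by
    intro γ δ a1 a2 a3
    have := tri g d γ δ hg' hd' hgd a1 a2 a3
    rw [hcdef, div_mul_eq_mul_div, eq_div_iff_mul_eq']
    exact this
  clear_value c
  have hinv : ∀ γ : Γ, σ γ • x0 ≠ x0 → e γ * e γ⁻¹ = c * c := by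
    intro γ hγ
    obtain ⟨p, hp0, hp⟩ : ∃ p, p ≠ x0 ∧ p ≠ σ γ • x0 := by
      by_cases h : x1 = σ γ • x0
      · exact ⟨x2, h20, h ▸ h21⟩
      · exact ⟨x1, h10, h⟩
    obtain ⟨h, hh⟩ := hpre ((σ γ)⁻¹ • p)
    obtain ⟨δ, rfl⟩ := hσ h
    have a2 : σ δ • x0 ≠ x0 := by
      rw [hh]; intro e1; rw [inv_smul_eq_iff] at e1; exact hp e1
    have a3 : σ (γ * δ) • x0 ≠ x0 := by rw [map_mul, mul_smul, hh, smul_inv_smul]; exact hp0
    have a4 : σ γ⁻¹ • x0 ≠ x0 := by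
      rw [map_inv]; intro e1; rw [inv_smul_eq_iff] at e1; exact hγ e1.symm
    have t1 := tric γ δ hγ a2 a3
    have t2 := tric γ⁻¹ (γ * δ) a4 a3 (by rwa [inv_mul_cancel_left])
    rw [inv_mul_cancel_left] at t2
    refine mul_right_cancel (b := e δ * e (γ * δ)) ?_
    calc e γ * e γ⁻¹ * (e δ * e (γ * δ)) = e γ * e δ * (e γ⁻¹ * e (γ * δ)) := by ac_rfl
      _ = _ := by rw [t1, t2]; ac_rfl
  have hfix : ∀ γ, σ γ • x0 = x0 → ∃ m ∈ L, ∃ k : σ.ker, γ = m * k := by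
    intro γ hγ
    obtain ⟨m, hm, em⟩ := hLs _ hγ
    exact ⟨m, hm, ⟨m⁻¹ * γ, by rw [MonoidHom.mem_ker, map_mul, map_inv, em, inv_mul_cancel]⟩,
      (mul_inv_cancel_left m γ).symm⟩
  choose μ hμ κ hκ using hfix
  let χ : Γ → A := fun γ => if h : σ γ • x0 = x0 then π (κ γ h) else e γ / c
  have χ_fix : ∀ m ∈ L, ∀ k : σ.ker, χ (m * k) = π k := by
    intro m hm k
    have h : σ (m * k) • x0 = x0 := by rw [map_mul, hk1, mul_one]; exact hL m hm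
    simp only [χ, dif_pos h]
    congr 1
    have h1 := hκ _ h
    generalize hν : κ _ h = ν at h1 ⊢
    generalize hmμ : μ _ h = m' at h1
    have hm' : m' ∈ L := hmμ ▸ hμ _ h
    have h2 : (m'⁻¹ * m : Γ) ∈ σ.ker ⊓ L := by
      refine ⟨?_, L.mul_mem (L.inv_mem hm') hm⟩
      have : m'⁻¹ * m = ((ν * k⁻¹ : σ.ker) : Γ) := by
        rw [Subgroup.coe_mul, Subgroup.coe_inv, eq_mul_inv_iff_mul_eq, mul_assoc, h1,
          inv_mul_cancel_left]
      rw [this]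
      exact (ν * k⁻¹).2
    rw [hLk, Subgroup.mem_bot, inv_mul_eq_one] at h2
    subst h2
    exact Subtype.ext (mul_left_cancel h1.symm)
  have χ_move : ∀ γ, σ γ • x0 ≠ x0 → χ γ = e γ / c := fun γ h => by simp only [χ, dif_neg h]
  have χ_mul : ∀ γ δ, χ (γ * δ) = χ γ * χ δ := by
    intro γ δ
    by_cases hγ : σ γ • x0 = x0
    · obtain ⟨m, hm, k, rfl⟩ : ∃ m ∈ L, ∃ k : σ.ker, γ = m * k := ⟨_, hμ γ hγ, _, hκ γ hγ⟩
      rw [χ_fix m hm k]
      by_cases hδ : σ δ • x0 = x0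
      · obtain ⟨n, hn, j, rfl⟩ : ∃ n ∈ L, ∃ j : σ.ker, δ = n * j := ⟨_, hμ δ hδ, _, hκ δ hδ⟩
        rw [χ_fix n hn j, ← map_mul π, ← χ_fix (m * n) (L.mul_mem hm hn) (k * j), Subgroup.coe_mul]
        congr 1
        calc m * k * (n * j) = m * ((k : Γ) * n) * j := by group
          _ = m * (n * k) * j := by rw [← hzc k n]
          _ = _ := by group
      · have h := he' δ hδ m hm 1 L.one_mem k
        rw [mul_one] at h
        rw [show m * k * δ = m * δ * k by rw [mul_assoc, ← hzc k δ, ← mul_assoc]]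
        rw [χ_move _ h.1, χ_move _ hδ, h.2, div_eq_mul_inv, div_eq_mul_inv]
        ac_rfl
    · rw [χ_move γ hγ]
      by_cases hδ : σ δ • x0 = x0
      · obtain ⟨n, hn, j, rfl⟩ : ∃ n ∈ L, ∃ j : σ.ker, δ = n * j := ⟨_, hμ δ hδ, _, hκ δ hδ⟩
        have h := he' γ hγ 1 L.one_mem n hn j
        rw [one_mul] at h
        rw [χ_fix n hn j, ← mul_assoc, χ_move _ h.1, h.2, div_mul_eq_mul_div]
      · rw [χ_move δ hδ]
        by_cases hγδ : σ (γ * δ) • x0 = x0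
        · obtain ⟨n, hn, j, en⟩ : ∃ n ∈ L, ∃ j : σ.ker, γ * δ = n * j := ⟨_, hμ _ hγδ, _, hκ _ hγδ⟩
          rw [en, χ_fix n hn j]
          have hγi : σ γ⁻¹ • x0 ≠ x0 := by
            rw [map_inv]; intro e1; rw [inv_smul_eq_iff] at e1; exact hγ e1.symm
          have h := he' γ⁻¹ hγi 1 L.one_mem n hn j
          rw [one_mul, mul_assoc, ← en, inv_mul_cancel_left] at h
          rw [h.2, div_mul_div_comm, ← mul_assoc, hinv γ hγ, mul_div_cancel_left]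
        · rw [χ_move _ hγδ]
          have := tric γ δ hγ hδ hγδ
          calc e (γ * δ) / c = c * e (γ * δ) / (c * c) := by rw [mul_div_mul_left_eq_div]
            _ = _ := by rw [← this, div_mul_div_comm]
  let χh : Γ →* A := MonoidHom.mk' χ χ_mul
  have h1 : χh (z : Γ) = 1 := Abelianization.commutator_subset_ker χh hz
  rw [← χ_fix 1 L.one_mem z, one_mul]
  exact h1

end Cfsg.Agent.Golay.Mult
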