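import Cfsg.Agent.Lib.Golay.Mult.Tables
import Cfsg.Agent.Lib.Schur.Basic

/-!
The Schur multiplier of M₁₁ is trivial.
-/

set_option autoImplicit false

namespace Cfsg.Agent.Golay.Mult

open Subgroup
open scoped commutatorElement

/-- An element of order 3 of M₁₁. -/
def threeA : List ℕ := [0, 1, 2, 4, 12, 15, 16, 7, 9, 13, 10, 22, 3, 8, 21, 19, 18, 17, 6, 5, 14, 20, 23, 11]

/-- A second element of order 3. -/
def threeB : List ℕ := [0, 1, 2, 18, 6, 15, 8, 10, 4, 12, 17, 23, 16, 3, 14, 19, 9, 7, 13, 5, 20, 21, 11, 22]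

/-- An element centralising `threeA` and inverting `threeB`. -/
def threeN : List ℕ := [0, 2, 1, 3, 4, 23, 8, 10, 6, 16, 7, 15, 12, 18, 14, 11, 9, 17, 13, 22, 20, 21, 19, 5]

/-- An element of order 8 of M₁₁. -/
def eightR : List ℕ := [0, 1, 3, 2, 8, 17, 13, 19, 6, 18, 15, 21, 16, 12, 23, 11, 9, 14, 4, 22, 10, 7, 20, 5]

/-- An involution inducing the cube map on `eightR`. -/
def eightS : List ℕ := [0, 1, 3, 2, 4, 5, 9, 10, 13, 6, 7, 11, 12, 8, 14, 20, 18, 23, 16, 21, 15, 19, 22, 17]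

/-- Generators of a Sylow 2-subgroup of M₁₁. -/
def sdGens : List (List ℕ) := [eightS, powTab eightR 4, powTab eightR 2, eightR]

theorem m11_facts :
    ([threeA, threeB, threeN, eightR, eightS].all ok11 = true) ∧
    threeCheck threeA threeB threeN = true ∧
    (threeA ≠ idTab ∧ threeB ≠ idTab ∧ threeB ≠ threeA ∧ threeB ≠ powTab threeA 2) ∧
    (threeA.length = 24 ∧ threeB.length = 24) ∧
    (powTab eightR 8 = idTab ∧ comp eightS eightS = idTab ∧
      comp eightS eightR = comp (powTab eightR 3) eightS ∧ powTab eightR 4 ≠ idTab) ∧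
    ((allProd sdGens).all (fun e => sdGens.all fun t => (allProd sdGens).contains (comp e t)) = true ∧
      (allProd sdGens).Nodup ∧ (allProd sdGens).all (fun e => e.length == 24) = true ∧
      (allProd sdGens).contains idTab = true ∧ (allProd sdGens).length = 16) := by
  decide +kernel

theorem stem_trivial_M11 {Γ : Type} [Group Γ] [Finite Γ] (σ : Γ →* Spor.M11)
    (hσ : Cfsg.IsStemExtension σ) : σ.ker = ⊥ := by
  obtain ⟨hok, hthree, ⟨n0, n1, n2, n3⟩, hlen, ⟨hr, hs, hsr, hr4⟩, hcl, hnd, hl24, hid, h16⟩ :=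
    m11_facts
  simp only [List.all_cons, List.all_nil, Bool.and_true, Bool.and_eq_true] at hok
  obtain ⟨oa, ob, on', oer, oes⟩ := hok
  have mk : ∀ {l : List ℕ}, ok11 l = true → ∃ g : Spor.M11, Tab g.1 l := fun h => by
    obtain ⟨g, hg, ht⟩ := exists_M11 h
    exact ⟨⟨g, hg⟩, ht⟩
  refine Cfsg.Agent.KnownSimple.ker_eq_bot_of_local σ hσ fun ℓ hℓ => ?_
  by_cases h3 : ℓ = 3
  · subst h3
    exact exists_local_three σ hσ.1 hσ.2.1 (mk oa) (mk ob) (mk on') hthree
      (by rw [card_M11]; norm_num) n0 ⟨n1, n2, n3⟩ hlen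
  by_cases h2 : ℓ = 2
  · subst h2
    obtain ⟨r, tr⟩ := mk oer
    obtain ⟨s, ts⟩ := mk oes
    have er : r ^ 8 = 1 := eq_one_of_tab (hr ▸ tab_coe_pow tr 8)
    have es : s * s = 1 := eq_one_of_tab (hs ▸ tab_coe_mul ts ts)
    have esr : s * r * s⁻¹ = r ^ 3 := by
      rw [mul_inv_eq_iff_eq_mul]
      exact eq_of_tab (hsr ▸ tab_coe_mul ts tr) (tab_coe_mul (tab_coe_pow tr 3) ts)
    have er4 : r ^ 4 ≠ 1 := fun e => hr4 (tab_getD_eq (tab_coe_pow tr 4) (e ▸ tab_one)
      (by simp [powTab, comp]) (by simp [idTab]))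
    refine ⟨closure {r, s}, ?_, inf_commutator_eq_bot_of_semidihedral σ hσ.1 hσ.2.1 er er4 es esr⟩
    have hT : ∀ t ∈ sdGens, ∃ g ∈ closure {r, s}, Tab g.1 t := by
      intro t ht
      simp only [sdGens, List.mem_cons, List.not_mem_nil, or_false] at ht
      rcases ht with rfl | rfl | rfl | rfl
      · exact ⟨s, subset_closure (by simp), ts⟩
      · exact ⟨_, pow_mem (subset_closure (by simp)) 4, tab_coe_pow tr 4⟩
      · exact ⟨_, pow_mem (subset_closure (by simp)) 2, tab_coe_pow tr 2⟩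
      · exact ⟨r, subset_closure (by simp), tr⟩
    have hle : closure (tabSet Spor.M11 sdGens) ≤ closure {r, s} :=
      (closure_le _).2 fun g ⟨t, ht, hgt⟩ => by
        obtain ⟨g', hg', hgt'⟩ := hT t ht
        exact eq_of_tab hgt hgt' ▸ hg'
    obtain ⟨hcard, -⟩ := card_closure_tabSet (H := Spor.M11) sdGens
      (fun t ht => by obtain ⟨g, -, hg⟩ := hT t ht; exact ⟨g, hg⟩) hcl hnd hl24 hid
    intro hdvd
    have h := (Nat.mul_dvd_mul_left 16 hdvd).trans
      (Nat.mul_dvd_mul_right ((hcard.trans h16) ▸ Subgroup.card_dvd_of_le hle) _)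
    rw [Subgroup.card_mul_index, card_M11] at h
    norm_num at h
  refine exists_local_of_sq_not_dvd σ hσ.1 hσ.2.1 hℓ fun hsq => ?_
  have hd : ℓ ∣ 7920 := card_M11 ▸ (dvd_pow_self ℓ two_ne_zero).trans hsq
  rcases prime_dvd_7920 hℓ hd with rfl | rfl | rfl | rfl
  · exact h2 rfl
  · exact h3 rfl
  all_goals rw [card_M11] at hsq; norm_num at hsq

theorem hasCyclicSchurMultiplier_M11 : Cfsg.HasCyclicSchurMultiplier Spor.M11 1 :=
  Cfsg.Agent.Schur.hasCyclicSchurMultiplier_one_of_forall fun _ _ _ σ hσ => stem_trivial_M11 σ hσ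

end Cfsg.Agent.Golay.Mult
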