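import Cfsg.Agent.Lib.Golay.Mult.M12Upper

/-!
The double cover of M₁₂: signed permutations of the dodecad preserving the words of weight 6 of
the ternary code, and the Schur multiplier of M₁₂.
-/

set_option autoImplicit false

namespace Cfsg.Agent.Golay.Mult

open Subgroup
open scoped Pointwise IsMulCommutative commutatorElement

/-- The 264 words of weight 6 of the ternary code on the dodecad, as masks on signed points. -/
def signWords : List ℕ := [
  5670, 10521, 17493, 23112, 24930, 34986, 37521, 42372,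
  66138, 70977, 75876, 83616, 90249, 100869, 102696, 107538,
  131493, 136344, 141954, 148746, 153633, 156180, 166224, 168006,
  263570, 268421, 271016, 280868, 282650, 288257, 295241, 300128,
  328745, 334352, 336134, 346178, 360596, 394820, 401489, 414080,
  426530, 436232, 526945, 528724, 533578, 541318, 551056, 558616,
  563458, 565285, 592264, 594082, 606481, 611332, 631360, 657430,
  659977, 664864, 671848, 689281, 1050249, 1055136, 1056918, 1067538,
  1069317, 1074216, 1081956, 1091649, 1115412, 1120266, 1122849, 1134672,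
  1147266, 1180770, 1188168, 1198212, 1212441, 1218048, 1312856, 1315394,
  1327265, 1344518, 1351952, 1385600, 1393160, 1444097, 1445924, 1573162,
  1578001, 1583620, 1590592, 1609864, 1638469, 1673248, 1704592, 1728514,
  2099526, 2101353, 2106960, 2113944, 2118786, 2131233, 2136084, 2138634,
  2164881, 2167428, 2179110, 2189568, 2196552, 2230824, 2232594, 2237445,
  2245185, 2269344, 2359829, 2364680, 2369570, 2383940, 2394752, 2425184,
  2461697, 2490506, 2507792, 2622628, 2630017, 2639881, 2642464, 2654290,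
  2688514, 2695192, 2758720, 2785540, 4197012, 4198794, 4203681, 4211241,
  4216080, 4220934, 4228674, 4235352, 4262178, 4263957, 4269576, 4276548,
  4298880, 4327497, 4330080, 4341906, 4359204, 4366593, 4456550, 4467008,
  4473992, 4491281, 4493828, 4522625, 4546592, 4587800, 4592642, 4719877,
  4724776, 4727314, 4739137, 4751776, 4785232, 4816906, 4857988, 4868608,
  5243217, 5248068, 5268096, 5277960, 5279778, 5308584, 5325825, 5374470,
  5384208, 5506592, 5513225, 5668928, 5769346, 5783572, 5837056, 6292506,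
  6298113, 6299940, 6309984, 6324357, 6365250, 6390288, 6423936, 6443016,
  6557840, 6570242, 6621188, 6816328, 6857728, 6946849, 8389992, 8394834,
  8397381, 8407425, 8409252, 8421654, 8426505, 8432160, 8455302, 8462736,
  8472600, 8475138, 8487009, 8521233, 8526084, 8527914, 8545344, 8553096,
  8653322, 8655137, 8659988, 8667728, 8691842, 8720456, 8750336, 8784032,
  8798213, 8913049, 8918656, 8930338, 8937736, 8947780, 8978980, 8988673,
  9044290, 9080848, 9439269, 9441816, 9446658, 9453642, 9471120, 9505344,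
  9543684, 9572481, 9584928, 9699716, 9721856, 9764882, 9969760, 9994753,
  10093576, 10486434, 10496136, 10503684, 10510353, 10522944, 10551561, 10556448,
  10616916, 10651650, 10748993, 10780712, 10887680, 11012368, 11014150, 11092096]

/-- Words through the first point covering all points. -/
def selWords : List ℕ := [5670, 346178, 5243217]

/-- Signed lifts of `gens12`. -/
def lift12 : List (List ℕ) := [
  [1, 0, 23, 22, 13, 12, 8, 9, 16, 17, 20, 21, 7, 6, 10, 11, 15, 14, 5, 4, 2, 3, 18, 19],
  [1, 0, 21, 20, 19, 18, 12, 13, 5, 4, 2, 3, 9, 8, 23, 22, 10, 11, 15, 14, 7, 6, 16, 17],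
  [22, 23, 19, 18, 12, 13, 3, 2, 7, 6, 5, 4, 20, 21, 11, 10, 16, 17, 14, 15, 1, 0, 8, 9]]

/-- Two elements of M₁₂ and their anticommuting lifts. -/
def antiPair : List (List ℕ × List ℕ) := [([2, 9, 1, 8, 4, 19, 13, 22, 6, 0, 15, 7, 12, 3, 21, 23, 16, 11, 18, 5, 10, 14, 17, 20], [5, 4, 15, 14, 2, 3, 13, 12, 8, 9, 19, 18, 10, 11, 0, 1, 17, 16, 6, 7, 21, 20, 22, 23]), ([0, 1, 2, 8, 12, 21, 13, 11, 6, 9, 23, 17, 18, 3, 5, 20, 4, 22, 16, 14, 15, 19, 7, 10], [0, 1, 2, 3, 5, 4, 13, 12, 16, 17, 19, 18, 11, 10, 15, 14, 23, 22, 7, 6, 9, 8, 20, 21])]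

/-- The point under a signed point. -/
def qd (j : Fin 24) : GolayPt := pt (dList.getD (j.val / 2) 0)

/-- The opposite signed point. -/
def negPt (j : Fin 24) : Fin 24 := ⟨(j.val ^^^ 1) % 24, Nat.mod_lt _ (by norm_num)⟩

theorem negPt_facts : (∀ j, negPt (negPt j) = j) ∧ (∀ j, negPt j ≠ j) ∧
    (∀ j, qd (negPt j) = qd j) ∧ (∀ i j, qd i = qd j → i = j ∨ i = negPt j) ∧
    (∀ p : GolayPt, dMask.testBit (idx p) = true → ∃ j, qd j = p) ∧
    ∀ j, dMask.testBit (idx (qd j)) = true := by
  decide +kernel

/-- The global sign change. -/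
def negPerm : Equiv.Perm (Fin 24) := Function.Involutive.toPerm negPt negPt_facts.1

theorem negPt_two_mul : ∀ k : Fin 12, (negPt ⟨2 * k.val, by omega⟩).val = 2 * k.val + 1 := by
  decide +kernel

theorem qd_mem (j : Fin 24) : qd j ∈ Spor.squareDodecad := mem_D_iff.2 (negPt_facts.2.2.2.2.2 j)

/-- The signed points of a mask. -/
def wordSet (m : ℕ) : Finset (Fin 24) := Finset.univ.filter fun j => m.testBit j.val

theorem mem_wordSet {m : ℕ} {j : Fin 24} : j ∈ wordSet m ↔ m.testBit j.val = true := by
  simp [wordSet]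

/-- The word sets. -/
def wordSets : Set (Finset (Fin 24)) := {s | ∃ m ∈ signWords, wordSet m = s}

/-- Signed permutations over M₁₂. -/
def overM12 : Subgroup (Equiv.Perm (Fin 24)) where
  carrier := {x | ∃ g ∈ Spor.M12, ∀ j, qd (x j) = g (qd j)}
  one_mem' := ⟨1, Spor.M12.one_mem, fun _ => rfl⟩
  mul_mem' := by
    rintro x y ⟨g, hg, hx⟩ ⟨h, hh, hy⟩
    exact ⟨g * h, Spor.M12.mul_mem hg hh, fun j => by
      rw [Equiv.Perm.mul_apply, Equiv.Perm.mul_apply, hx, hy]⟩
  inv_mem' := by
    rintro x ⟨g, hg, hx⟩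
    refine ⟨g⁻¹, Spor.M12.inv_mem hg, fun j => ?_⟩
    have h := hx (x⁻¹ j)
    rw [Equiv.Perm.coe_inv, Equiv.apply_symm_apply] at h
    rw [h, Equiv.Perm.coe_inv, Equiv.Perm.coe_inv, Equiv.symm_apply_apply]

/-- The double cover of M₁₂. -/
def cover12 : Subgroup (Equiv.Perm (Fin 24)) :=
  overM12 ⊓ Cfsg.setSystemAut wordSets ⊓ centralizer {negPerm}

theorem eq_of_qd {g h : Equiv.Perm GolayPt} (hg : g ∈ Spor.M12) (hh : h ∈ Spor.M12)
    (e : ∀ j, g (qd j) = h (qd j)) : g = h :=
  eq12_of_D hg hh fun p hp => by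
    obtain ⟨j, rfl⟩ := negPt_facts.2.2.2.2.1 p (mem_D_iff.1 hp)
    exact e j

theorem exists_proj (x : cover12) : ∃ g : Spor.M12, ∀ j, qd (x.1 j) = g.1 (qd j) := by
  obtain ⟨g, hg, hx⟩ := x.2.1.1
  exact ⟨⟨g, hg⟩, hx⟩

/-- The projection onto M₁₂. -/
noncomputable def projM12 : cover12 →* Spor.M12 :=
  MonoidHom.mk' (fun x => (exists_proj x).choose) fun x y =>
    Subtype.ext (eq_of_qd (exists_proj (x * y)).choose.2
      (Spor.M12.mul_mem (exists_proj x).choose.2 (exists_proj y).choose.2) fun j => by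
      rw [← (exists_proj (x * y)).choose_spec j, Subgroup.coe_mul, Equiv.Perm.mul_apply,
        (exists_proj x).choose_spec, (exists_proj y).choose_spec]
      rfl)

theorem projM12_spec (x : cover12) (j : Fin 24) : qd (x.1 j) = (projM12 x).1 (qd j) :=
  (exists_proj x).choose_spec j

theorem projM12_eq {x : cover12} {g : Spor.M12} (h : ∀ j, qd (x.1 j) = g.1 (qd j)) :
    projM12 x = g :=
  Subtype.ext (eq_of_qd (projM12 x).2 g.2 fun j => by rw [← projM12_spec, h])

/-- A table on the signed points as a function. -/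
def tabFun (t : List ℕ) (j : Fin 24) : Fin 24 := ⟨t.getD j.val 0 % 24, Nat.mod_lt _ (by norm_num)⟩

/-- The image of a mask under a table. -/
def imgWord (t : List ℕ) (m : ℕ) : ℕ :=
  (List.range 24).foldl (fun r i => if m.testBit i then r ||| 2 ^ t.getD i 0 else r) 0

/-- The opposite mask. -/
def negWord (m : ℕ) : ℕ := ((m &&& 11184810) >>> 1) ||| ((m &&& 5592405) <<< 1)

/-- The table `t` is a lift of the table `l`. -/
def liftCheck (t l : List ℕ) : Bool :=
  ok12 l && decide (∀ i j, tabFun t i = tabFun t j → i = j) &&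
    decide (∀ j, tabFun t (negPt j) = negPt (tabFun t j)) &&
    decide (∀ j, idx (qd (tabFun t j)) = l.getD (idx (qd j)) 0) &&
    signWords.all fun m =>
      signWords.contains (imgWord t m) &&
        (List.range 24).all fun i => (imgWord t m).testBit (t.getD i 0 % 24) == m.testBit i

theorem exists_lift {t l : List ℕ} (h : liftCheck t l = true) :
    ∃ x : cover12, (∀ j, x.1 j = tabFun t j) ∧ Tab (projM12 x).1 l := by
  simp only [liftCheck, Bool.and_eq_true, decide_eq_true_eq, List.all_eq_true,
    List.contains_iff_mem] at h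
  obtain ⟨⟨⟨⟨hok, hinj⟩, hneg⟩, hqd⟩, hw⟩ := h
  obtain ⟨g, hg, ht⟩ := exists_M12 hok
  set x : Equiv.Perm (Fin 24) :=
    Equiv.ofBijective (tabFun t) (Finite.injective_iff_bijective.1 fun i j => hinj i j) with hx
  have hxj : ∀ j, x j = tabFun t j := fun j => rfl
  have hq : ∀ j, qd (x j) = g (qd j) := fun j => by
    rw [hxj, ht.apply, ← hqd j, pt_idx]
  have hmem : x ∈ cover12 := by
    refine ⟨⟨⟨g, hg, hq⟩, ?_⟩, ?_⟩
    · show x ∈ Cfsg.setSystemAut wordSets
      rw [mem_setSystemAut_iff]
      rintro _ ⟨m, hm, rfl⟩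
      obtain ⟨hm', hbit⟩ := hw m hm
      refine ⟨_, hm', Finset.ext fun j => ?_⟩
      rw [← Finset.inv_smul_mem_iff, Equiv.Perm.smul_def, mem_wordSet, mem_wordSet]
      have hb : (imgWord t m).testBit (tabFun t (x⁻¹ j)).val = m.testBit (x⁻¹ j).val :=
        beq_iff_eq.1 (hbit _ (List.mem_range.2 (x⁻¹ j).isLt))
      rw [← hxj, Equiv.Perm.coe_inv, Equiv.apply_symm_apply] at hb
      rw [hb, Equiv.Perm.coe_inv]
    · show x ∈ centralizer ({negPerm} : Set (Equiv.Perm (Fin 24)))
      rw [mem_centralizer_iff]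
      intro y hy
      rw [Set.mem_singleton_iff] at hy
      subst hy
      exact Equiv.ext fun j => (hneg j).symm
  refine ⟨⟨x, hmem⟩, hxj, ?_⟩
  rw [projM12_eq (x := ⟨x, hmem⟩) (g := ⟨g, hg⟩) hq]
  exact ht

/-- Two words on the same positions. -/
def samePos (v w : ℕ) : Bool :=
  (List.range 12).all fun i =>
    (v.testBit (2 * i) || v.testBit (2 * i + 1)) == (w.testBit (2 * i) || w.testBit (2 * i + 1))

theorem sel_facts :
    (selWords.all fun w => signWords.contains w && signWords.all fun v => !(samePos v w) ||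
      (decide (∀ j : Fin 24, v.testBit j.val = w.testBit j.val) ||
        decide (∀ j : Fin 24, v.testBit j.val = w.testBit (negPt j).val))) = true ∧
    (∀ w ∈ selWords, (w.testBit 0 = true ∨ w.testBit 1 = true) ∧
      ∀ j : Fin 24, w.testBit j.val = true → w.testBit (negPt j).val = false) ∧
    (∀ j : Fin 24, ∃ w ∈ selWords, w.testBit j.val = true ∨ w.testBit (negPt j).val = true) ∧
    (signWords.all fun m => signWords.contains (negWord m) &&
      (List.range 24).all fun i => (negWord m).testBit ((i ^^^ 1) % 24) == m.testBit i) = true := by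
  decide +kernel

theorem lift_facts :
    (List.zipWith liftCheck lift12 gens12).all id = true ∧ lift12.length = gens12.length ∧
    antiPair.all (fun p => liftCheck p.2 p.1) = true ∧ antiPair.length = 2 ∧
    comp (antiPair.getD 0 ([], [])).1 (antiPair.getD 1 ([], [])).1 =
      comp (antiPair.getD 1 ([], [])).1 (antiPair.getD 0 ([], [])).1 ∧
    ∀ j, tabFun (antiPair.getD 0 ([], [])).2 (tabFun (antiPair.getD 1 ([], [])).2 j) =
      negPt (tabFun (antiPair.getD 1 ([], [])).2 (tabFun (antiPair.getD 0 ([], [])).2 j)) := by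
  decide +kernel

theorem negPerm_mem : negPerm ∈ cover12 := by
  refine ⟨⟨⟨1, Spor.M12.one_mem, fun j => negPt_facts.2.2.1 j⟩, ?_⟩, ?_⟩
  · show negPerm ∈ Cfsg.setSystemAut wordSets
    rw [mem_setSystemAut_iff]
    rintro _ ⟨m, hm, rfl⟩
    have h := List.all_eq_true.1 sel_facts.2.2.2 m hm
    simp only [Bool.and_eq_true, List.contains_iff_mem, List.all_eq_true, List.mem_range,
      beq_iff_eq] at h
    obtain ⟨hm', hb⟩ := h
    refine ⟨_, hm', Finset.ext fun j => ?_⟩
    rw [← Finset.inv_smul_mem_iff, Equiv.Perm.smul_def, mem_wordSet, mem_wordSet,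
      Equiv.Perm.coe_inv]
    have h2 : (negWord m).testBit (negPt (negPerm.symm j)).val = m.testBit (negPerm.symm j).val :=
      hb _ (negPerm.symm j).isLt
    rw [show negPt (negPerm.symm j) = j from negPerm.apply_symm_apply j] at h2
    rw [h2]
  · show negPerm ∈ centralizer ({negPerm} : Set (Equiv.Perm (Fin 24)))
    rw [mem_centralizer_iff]
    intro y hy
    rw [Set.mem_singleton_iff] at hy
    rw [hy]

theorem projM12_negPerm : projM12 ⟨negPerm, negPerm_mem⟩ = 1 :=
  projM12_eq fun j => negPt_facts.2.2.1 j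

theorem projM12_surjective : Function.Surjective projM12 := by
  intro g
  obtain ⟨hz, hlen, -⟩ := lift_facts
  have hc := gens_ok.1
  simp only [Bool.and_eq_true, List.all_eq_true] at hc
  have hR : projM12.range.map Spor.M12.subtype ≤ Spor.M12 := Subgroup.map_subtype_le _
  have hle := (fix12_le_of_repsCheck hR (evalSLP_mem _ _ _ fun l hl => by
    rcases List.mem_append.1 hl with hl | hl
    · obtain ⟨i, hi, rfl⟩ := List.mem_iff_getElem.1 hl
      have hi' : i < lift12.length := by rw [hlen]; exact hi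
      have hi'' : i < (List.zipWith liftCheck lift12 gens12).length := by
        rw [List.length_zipWith]; omega
      have h := List.all_eq_true.1 hz _ (List.getElem_mem hi'')
      rw [List.getElem_zipWith, id_eq] at h
      obtain ⟨x, -, hx⟩ := exists_lift h
      exact ⟨(projM12 x).1, ⟨projM12 x, ⟨x, rfl⟩, rfl⟩, hx⟩
    · rw [List.mem_singleton] at hl
      exact ⟨1, one_mem _, hl ▸ tab_one⟩) _ 0 hc.2).1
  obtain ⟨y, hy, e⟩ := hle (show g.1 ∈ fix12 0 from g.2)
  obtain ⟨x, rfl⟩ := hy
  exact ⟨x, Subtype.ext e⟩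

theorem eq_of_projM12_eq_one {x : cover12} (hx : projM12 x = 1) :
    x = 1 ∨ x = ⟨negPerm, negPerm_mem⟩ := by
  obtain ⟨hsel, hsel2, hcov, -⟩ := sel_facts
  have hcent : ∀ j, x.1 (negPt j) = negPt (x.1 j) := fun j => by
    exact (DFunLike.congr_fun (mem_centralizer_iff.1 x.2.2 negPerm rfl) j).symm
  have hhalf : ∀ j, x.1 j = j ∨ x.1 j = negPt j := fun j => by
    refine negPt_facts.2.2.2.1 _ _ ?_
    rw [projM12_spec, hx]
    rfl
  have hpair : ∀ j, x.1 j = j → x.1 (negPt j) = negPt j := fun j h => by rw [hcent, h]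
  -- on each selected word the sign is constant
  have hconst : ∀ w ∈ selWords, (∀ j : Fin 24, w.testBit j.val = true → x.1 j = j) ∨
      (∀ j : Fin 24, w.testBit j.val = true → x.1 j = negPt j) := by
    intro w hw
    have h := List.all_eq_true.1 hsel w hw
    simp only [Bool.and_eq_true, List.contains_iff_mem, List.all_eq_true, Bool.or_eq_true,
      decide_eq_true_eq] at h
    obtain ⟨hwS, hv⟩ := h
    obtain ⟨v, hvS, hvx⟩ := mem_setSystemAut_iff.1 x.2.1.2 _ ⟨w, hwS, rfl⟩
    have hbit : ∀ j : Fin 24, v.testBit (x.1 j).val = w.testBit j.val := fun j => by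
      apply Bool.eq_iff_iff.2
      rw [← mem_wordSet, ← mem_wordSet, hvx, ← Equiv.Perm.smul_def, Finset.smul_mem_smul_finset_iff]
    have hsame : samePos v w = true := by
      simp only [samePos, List.all_eq_true, List.mem_range, beq_iff_eq]
      intro i hi
      have e0 : negPt ⟨2 * i, by omega⟩ = ⟨2 * i + 1, by omega⟩ := by
        exact Fin.ext (negPt_two_mul ⟨i, hi⟩)
      have h0 := hbit ⟨2 * i, by omega⟩
      have h1 := hbit ⟨2 * i + 1, by omega⟩
      rcases hhalf ⟨2 * i, by omega⟩ with e | e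
      · have e' := hpair _ e
        rw [e0] at e'
        rw [e] at h0
        rw [e'] at h1
        simp only at h0 h1
        rw [h0, h1]
      · have e' : x.1 ⟨2 * i + 1, by omega⟩ = ⟨2 * i, by omega⟩ := by
          rw [← e0, hcent, e, negPt_facts.1]
        rw [e, e0] at h0
        rw [e'] at h1
        simp only at h0 h1
        rw [h0, h1, Bool.or_comm]
    rcases hv v hvS with h | h | h
    · simp [hsame] at h
    · left
      intro j hj
      rcases hhalf j with e | e
      · exact e
      · have h1 := hbit j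
        rw [e, h, hj, (hsel2 w hw).2 j hj] at h1
        exact absurd h1 (by simp)
    · right
      intro j hj
      rcases hhalf j with e | e
      · have h1 := hbit j
        rw [e, h, hj, (hsel2 w hw).2 j hj] at h1
        exact absurd h1 (by simp)
      · exact e
  have hall : (∀ j, x.1 j = j) ∨ (∀ j, x.1 j = negPt j) := by
    have hneg : ∀ j, x.1 j = negPt j → x.1 (negPt j) = negPt (negPt j) := fun j h => by
      rw [hcent, h]
    have hw0 : ∀ w ∈ selWords, (w.testBit (0 : Fin 24).val = true ∨
        w.testBit (negPt 0).val = true) := fun w hw => (hsel2 w hw).1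
    rcases hhalf 0 with h0 | h0
    · left
      intro j
      obtain ⟨w, hw, hj⟩ := hcov j
      rcases hconst w hw with hc | hc
      · rcases hj with hj | hj
        · exact hc j hj
        · have := hpair _ (hc _ hj)
          rwa [negPt_facts.1] at this
      · exfalso
        rcases hw0 w hw with hb | hb
        · exact negPt_facts.2.1 0 ((hc _ hb).symm.trans h0)
        · exact negPt_facts.2.1 (negPt 0) ((hc _ hb).symm.trans (hpair 0 h0))
    · right
      intro j
      obtain ⟨w, hw, hj⟩ := hcov j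
      rcases hconst w hw with hc | hc
      · exfalso
        rcases hw0 w hw with hb | hb
        · exact negPt_facts.2.1 0 (h0.symm.trans (hc _ hb))
        · exact negPt_facts.2.1 (negPt 0) ((hneg 0 h0).symm.trans (hc _ hb))
      · rcases hj with hj | hj
        · exact hc j hj
        · have := hneg _ (hc _ hj)
          rwa [negPt_facts.1] at this
  rcases hall with h | h
  · exact Or.inl (Subtype.ext (Equiv.ext h))
  · exact Or.inr (Subtype.ext (Equiv.ext h))

theorem isStemExtension_projM12 :
    Cfsg.IsStemExtension projM12 ∧ Nat.card projM12.ker = 2 := by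
  have hne : (⟨negPerm, negPerm_mem⟩ : cover12) ≠ 1 := fun e =>
    negPt_facts.2.1 0 (DFunLike.congr_fun (congrArg Subtype.val e) 0)
  refine ⟨⟨projM12_surjective, fun x hx => ?_, fun x hx => ?_⟩, ?_⟩
  · rcases eq_of_projM12_eq_one hx with rfl | rfl
    · exact one_mem _
    · rw [Subgroup.mem_center_iff]
      exact fun y => Subtype.ext (mem_centralizer_iff.1 y.2.2 negPerm rfl).symm
  · rcases eq_of_projM12_eq_one hx with rfl | rfl
    · exact one_mem _
    obtain ⟨-, -, hp, h2, -, hanti⟩ := lift_facts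
    have get : ∀ k < 2, ∃ u : cover12, ∀ j, u.1 j = tabFun (antiPair.getD k ([], [])).2 j :=
      fun k hk => by
        have hm : antiPair.getD k ([], []) ∈ antiPair := by
          rw [List.getD_eq_getElem _ _ (by omega)]; exact List.getElem_mem _
        obtain ⟨u, hu, -⟩ := exists_lift (List.all_eq_true.1 hp _ hm)
        exact ⟨u, hu⟩
    obtain ⟨u, hu⟩ := get 0 (by norm_num)
    obtain ⟨v, hv⟩ := get 1 (by norm_num)
    have e : u * v = ⟨negPerm, negPerm_mem⟩ * (v * u) := Subtype.ext (Equiv.ext fun j => by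
      show u.1 (v.1 j) = negPt (v.1 (u.1 j))
      rw [hu, hv, hv, hu]
      exact hanti j)
    rw [show (⟨negPerm, negPerm_mem⟩ : cover12) = ⁅u, v⁆ by
      rw [commutatorElement_def, e]; group]
    exact commutator_mem_commutator (mem_top u) (mem_top v)
  · rw [Nat.card_eq_two_iff]
    refine ⟨1, ⟨_, MonoidHom.mem_ker.2 projM12_negPerm⟩, fun e => hne (congrArg Subtype.val e).symm, ?_⟩
    refine Set.eq_univ_of_forall fun y => ?_
    rcases eq_of_projM12_eq_one (MonoidHom.mem_ker.1 y.2) with h | h
    · exact Or.inl (Subtype.ext h)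
    · exact Or.inr (Subtype.ext h)

theorem hasCyclicSchurMultiplier_M12 : Cfsg.HasCyclicSchurMultiplier Spor.M12 2 := by
  obtain ⟨hst, hcard⟩ := isStemExtension_projM12
  have : Fact (Nat.Prime 2) := ⟨Nat.prime_two⟩
  have hc := isCyclic_of_prime_card hcard
  have hz : Nat.card (Multiplicative (ZMod 2)) = 2 := by
    rw [Nat.card_congr Multiplicative.toAdd, Nat.card_zmod]
  exact Cfsg.Agent.Schur.hasSchurMultiplier_of_card_le projM12 hst
    (mulEquivOfCyclicCardEq (hcard.trans hz.symm)) fun Γ _ _ σ hσ => by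
      rw [hz]; exact card_stem_M12_le σ hσ

end Cfsg.Agent.Golay.Mult
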