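import Cfsg.Agent.Lib.Golay.Mult.M11
import Cfsg.Agent.Lib.Golay.Mult.Lift

/-!
The kernel of a stem extension of M₁₂ has order at most 2.
-/

set_option autoImplicit false

namespace Cfsg.Agent.Golay.Mult

open Subgroup
open scoped IsMulCommutative commutatorElement

/-- Witnesses for generators of the derived subgroup of the two-point stabiliser. -/
def derivedWit : List (List (List ℕ)) := [
  [[0, 1, 4, 16, 8, 14, 13, 10, 12, 2, 11, 23, 9, 3, 19, 15, 18, 7, 6, 20, 21, 5, 22, 17], [0, 1, 2, 16, 4, 20, 18, 22, 9, 6, 23, 17, 13, 3, 5, 21, 12, 11, 8, 14, 19, 15, 10, 7], [0, 1, 3, 6, 13, 20, 9, 10, 4, 2, 23, 22, 8, 12, 15, 5, 16, 7, 18, 21, 14, 19, 11, 17], [0, 1, 2, 13, 4, 14, 9, 23, 18, 8, 22, 17, 16, 12, 19, 21, 3, 11, 6, 20, 5, 15, 7, 10], [0, 1, 9, 2, 8, 15, 3, 17, 12, 6, 7, 22, 13, 4, 20, 14, 16, 23, 18, 21, 5, 19, 11, 10]],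
  [[0, 1, 12, 9, 4, 15, 13, 23, 8, 18, 17, 22, 6, 2, 19, 5, 3, 11, 16, 20, 21, 14, 10, 7], [0, 1, 3, 4, 16, 23, 13, 5, 12, 9, 21, 14, 6, 8, 11, 10, 2, 20, 18, 7, 17, 22, 15, 19], [0, 1, 9, 3, 4, 17, 8, 14, 16, 12, 15, 20, 13, 2, 10, 7, 18, 21, 6, 23, 11, 22, 5, 19], [0, 1, 16, 2, 3, 7, 12, 19, 13, 9, 15, 14, 8, 6, 11, 22, 4, 20, 18, 23, 17, 10, 21, 5], [0, 1, 13, 3, 4, 22, 18, 15, 6, 2, 14, 20, 9, 12, 7, 10, 8, 5, 16, 23, 11, 17, 21, 19]]]

/-- Program for its transversals. -/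
def progDerived : List (ℕ × ℕ) := [
  (1, 1), (0, 3), (0, 4), (0, 0), (0, 1), (1, 7),
  (1, 8), (0, 7), (1, 6), (1, 11), (0, 12), (0, 13),
  (0, 14), (1, 10), (1, 16), (0, 17), (1, 18), (0, 6),
  (1, 20), (0, 21), (1, 22), (1, 21), (1, 24), (1, 4),
  (0, 8), (1, 27), (1, 28), (1, 3), (0, 30), (1, 31),
  (0, 32), (1, 0), (1, 34), (0, 35), (1, 36), (0, 37),
  (1, 38), (1, 39), (1, 40), (1, 14), (0, 42), (1, 43),
  (1, 44), (1, 13), (0, 46), (1, 47)]

/-- Transversals. -/
def repsDerived : List (List (ℕ × ℕ)) := [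
  [(2, 2), (3, 5), (4, 0), (6, 3), (8, 6), (9, 7), (12, 1), (13, 4), (16, 9), (18, 8)],
  [(3, 2), (4, 10), (6, 15), (8, 19), (9, 23), (12, 25), (13, 26), (16, 29), (18, 33)],
  [(4, 2), (6, 41), (9, 45), (12, 48)]]

/-- The points whose stabilisers cut the derived two-point stabiliser down. -/
def derivedTabs : List (List ℕ) :=
  evalSLP [(derivedWit.getD 0 []).getD 0 [], (derivedWit.getD 1 []).getD 0 [], idTab] progDerived

theorem derived_facts :
    derivedWit.all (fun w => (w.drop 1).all (fun t => ok11 t && t.getD 1 0 == 1) &&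
      comp (w.getD 1 []) (w.getD 3 []) == idTab && comp (w.getD 2 []) (w.getD 4 []) == idTab &&
      w.getD 0 [] == comp (comp (w.getD 1 []) (w.getD 2 [])) (comp (w.getD 3 []) (w.getD 4 []))) = true ∧
    derivedWit.all (fun w => w.length == 5) = true ∧ derivedWit.length = 2 ∧
    (∀ k : Fin 3, ∀ xk ∈ repsDerived.getD k.val [],
      xk.1 < 24 ∧ (derivedTabs.getD xk.2 idTab).getD (k.val + 2) 0 = xk.1 ∧
        ∀ j : Fin k.val, (derivedTabs.getD xk.2 idTab).getD (j.val + 2) 0 = j.val + 2) ∧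
    (∀ k : Fin 3, ((repsDerived.getD k.val []).map Prod.fst).Nodup ∧
      (repsDerived.getD k.val []).length = [10, 9, 4].getD k.val 0) := by
  decide +kernel

theorem length_le_orbF (C : Subgroup (Equiv.Perm GolayPt)) (p : GolayPt) (xs : List ℕ)
    (hnd : xs.Nodup) (hlt : ∀ x ∈ xs, x < 24) (h : ∀ x ∈ xs, ∃ g ∈ C, g p = pt x) :
    xs.length ≤ (orbF C p).card := by
  rw [← List.toFinset_card_of_nodup hnd, ← Finset.card_image_of_injOn (f := pt) (fun a ha b hb e =>
    pt_inj (hlt a (List.mem_toFinset.1 ha)) (hlt b (List.mem_toFinset.1 hb)) e)]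
  refine Finset.card_le_card fun q hq => ?_
  obtain ⟨x, hx, rfl⟩ := Finset.mem_image.1 hq
  exact mem_orbF.2 (h x (List.mem_toFinset.1 hx))

/-- The two-point stabiliser in M₁₂, inside M₁₂. -/
abbrev pairStab : Subgroup Spor.M12 :=
  MulAction.stabilizer Spor.M12 zeroD ⊓
    MulAction.stabilizer Spor.M12 (⟨pt 1, pt_mem_D (by norm_num)⟩ : dSub)

theorem mem_pairStab {g : Spor.M12} :
    g ∈ pairStab ↔ g.1 (pt 0) = pt 0 ∧ g.1 (pt 1) = pt 1 := by
  rw [Subgroup.mem_inf, pt_zero]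
  exact ⟨fun h => ⟨congrArg Subtype.val h.1, congrArg Subtype.val h.2⟩,
    fun h => ⟨Subtype.ext h.1, Subtype.ext h.2⟩⟩

theorem card_pairStab : Nat.card pairStab = 720 := by
  have hmap : pairStab.map Spor.M12.subtype = fix12 2 := by
    ext g
    rw [mem_fix12]
    constructor
    · rintro ⟨h, hh, rfl⟩
      refine ⟨h.2, fun j hj => ?_⟩
      interval_cases j
      exacts [(mem_pairStab.1 hh).1, (mem_pairStab.1 hh).2]
    · rintro ⟨hg, hfix⟩
      exact ⟨⟨g, hg⟩, mem_pairStab.2 ⟨hfix 0 (by norm_num), hfix 1 (by norm_num)⟩, rfl⟩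
  rw [← Subgroup.card_map_of_injective (K := pairStab) Spor.M12.subtype_injective, hmap,
    card_fix12 (by norm_num), card_fix12 (by norm_num), card_fix12 (by norm_num), fix12_five,
    Subgroup.card_bot]

theorem card_commutator_pairStab : 360 ≤ Nat.card (_root_.commutator pairStab) := by
  obtain ⟨hw, hlen, h2, hreps, hnd⟩ := derived_facts
  set f : pairStab →* Equiv.Perm GolayPt := Spor.M12.subtype.comp pairStab.subtype with hf
  set C := (_root_.commutator pairStab).map f with hC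
  have hmem : ∀ w ∈ derivedWit, ∃ g ∈ C, Tab g (w.getD 0 []) := by
    intro w hwm
    have h := List.all_eq_true.1 hw w hwm
    have hl := List.all_eq_true.1 hlen w hwm
    simp only [beq_iff_eq] at hl
    simp only [Bool.and_eq_true, List.all_eq_true, beq_iff_eq] at h
    obtain ⟨⟨⟨hok, h13⟩, h24⟩, h0⟩ := h
    have get : ∀ k, 1 ≤ k → k < 5 → ∃ g : pairStab, Tab g.1.1 (w.getD k []) := by
      intro k hk hk5
      have hm : w.getD k [] ∈ w.drop 1 := by
        rw [List.getD_eq_getElem _ _ (by omega)]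
        rw [List.mem_iff_getElem]
        exact ⟨k - 1, by simp; omega, by simp only [List.getElem_drop]; congr 1; omega⟩
      obtain ⟨h11, h1⟩ := hok _ hm
      obtain ⟨g, hg, ht⟩ := exists_M11 h11
      obtain ⟨hg12, hg0⟩ := mem_M11_iff.1 hg
      exact ⟨⟨⟨g, hg12⟩, mem_pairStab.2 ⟨by rw [pt_zero]; exact hg0,
        ht.apply_pt (by norm_num) h1⟩⟩, ht⟩
    obtain ⟨a, ta⟩ := get 1 le_rfl (by norm_num)
    obtain ⟨b, tb⟩ := get 2 (by norm_num) (by norm_num)
    obtain ⟨ai, tai⟩ := get 3 (by norm_num) (by norm_num)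
    obtain ⟨bi, tbi⟩ := get 4 (by norm_num) (by norm_num)
    have ea : ai = a⁻¹ := Subtype.ext (eq_inv_of_tab ta tai h13)
    have eb : bi = b⁻¹ := Subtype.ext (eq_inv_of_tab tb tbi h24)
    refine ⟨f ⁅a, b⁆, mem_map_of_mem _ (commutator_mem_commutator (mem_top a) (mem_top b)), ?_⟩
    rw [commutatorElement_def, ← ea, ← eb, mul_assoc (a * b)]
    simp only [f, MonoidHom.comp_apply, Subgroup.coe_subtype]
    rw [h0]
    exact tab_coe_mul (tab_coe_mul ta tb) (tab_coe_mul tai tbi)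
  have htabs := evalSLP_mem C progDerived
    [(derivedWit.getD 0 []).getD 0 [], (derivedWit.getD 1 []).getD 0 [], idTab] (fun l hl => by
      have hg : ∀ k < 2, derivedWit.getD k [] ∈ derivedWit := fun k hk => by
        rw [List.getD_eq_getElem _ _ (by omega)]; exact List.getElem_mem _
      simp only [List.mem_cons, List.not_mem_nil, or_false] at hl
      rcases hl with rfl | rfl | rfl
      exacts [hmem _ (hg 0 (by norm_num)), hmem _ (hg 1 (by norm_num)), ⟨1, one_mem _, tab_one⟩])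
  have horb : ∀ (k : ℕ) (hk : k < 3) (D' : Subgroup (Equiv.Perm GolayPt)),
      (∀ g ∈ C, (∀ j < k, g (pt (j + 2)) = pt (j + 2)) → g ∈ D') →
      [10, 9, 4].getD k 0 ≤ (orbF D' (pt (k + 2))).card := by
    intro k hk D' hD'
    obtain ⟨hn, hl⟩ := hnd ⟨k, hk⟩
    rw [← hl, ← List.length_map (f := Prod.fst)]
    refine length_le_orbF _ _ _ hn (fun x hx => ?_) fun x hx => ?_
    · obtain ⟨xk, hxk, rfl⟩ := List.mem_map.1 hx
      exact (hreps ⟨k, hk⟩ xk hxk).1
    · obtain ⟨xk, hxk, rfl⟩ := List.mem_map.1 hx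
      obtain ⟨-, e1, e2⟩ := hreps ⟨k, hk⟩ xk hxk
      obtain ⟨g, hg, tg⟩ := htabs xk.2
      exact ⟨g, hD' g hg fun j hj => tg.apply_pt (by omega) (e2 ⟨j, hj⟩),
        tg.apply_pt (by omega) e1⟩
  have h0 := horb 0 (by norm_num) C fun g hg _ => hg
  have h1 := horb 1 (by norm_num) (C ⊓ MulAction.stabilizer (Equiv.Perm GolayPt) (pt 2))
    fun g hg hfix => ⟨hg, hfix 0 (by norm_num)⟩
  have h3 := horb 2 (by norm_num)
    (C ⊓ MulAction.stabilizer (Equiv.Perm GolayPt) (pt 2) ⊓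
      MulAction.stabilizer (Equiv.Perm GolayPt) (pt 3))
    fun g hg hfix => ⟨⟨hg, hfix 0 (by norm_num)⟩, hfix 1 (by norm_num)⟩
  simp only [List.getD_cons_zero, List.getD_cons_succ, Nat.reduceAdd] at h0 h1 h3
  have hcard : Nat.card C = Nat.card (_root_.commutator pairStab) :=
    Subgroup.card_map_of_injective (Spor.M12.subtype_injective.comp pairStab.subtype_injective)
  rw [← hcard, card_eq_orbF_mul C (pt 2), card_eq_orbF_mul (C ⊓ _) (pt 3),
    card_eq_orbF_mul (C ⊓ _ ⊓ _) (pt 4)]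
  exact le_trans (by norm_num) (Nat.mul_le_mul h0 (Nat.mul_le_mul h1 (Nat.mul_le_mul h3
    (Nat.one_le_iff_ne_zero.2 Nat.card_pos.ne'))))

theorem card_stem_M12_le {Γ : Type} [Group Γ] [Finite Γ] (σ : Γ →* Spor.M12)
    (hσ : Cfsg.IsStemExtension σ) : Nat.card σ.ker ≤ 2 := by
  have h1 : (⟨pt 1, pt_mem_D (by norm_num)⟩ : dSub) ≠ zeroD := fun e => by
    have := congrArg Subtype.val e
    exact absurd this (by decide +kernel)
  have h2 : (⟨pt 2, pt_mem_D (by norm_num)⟩ : dSub) ≠ zeroD := fun e => by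
    have := congrArg Subtype.val e
    exact absurd this (by decide +kernel)
  have h21 : (⟨pt 2, pt_mem_D (by norm_num)⟩ : dSub) ≠ ⟨pt 1, pt_mem_D (by norm_num)⟩ := fun e => by
    have := congrArg Subtype.val e
    exact absurd this (by decide +kernel)
  have : IsSimpleGroup Spor.M11 := isSimpleGroup_M11
  have : IsSimpleGroup (MulAction.stabilizer Spor.M12 zeroD) :=
    zeroStabEquiv.isSimpleGroup_congr.2 inferInstance
  obtain ⟨θ, hθ⟩ := exists_surjective_twist σ hσ zeroD _ _ h1 h2 h21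
    (fun a => by
      obtain ⟨g, hg, e⟩ := exists_map12 (fun _ => a.1) 1 (by norm_num) (fun _ _ => a.2)
        fun j k _ _ _ => by omega
      have e0 := e 0 (by norm_num)
      rw [pt_zero] at e0
      exact ⟨⟨g, hg⟩, Subtype.ext e0⟩)
    (fun a b a' b' ha hb hab ha' hb' hab' => by
      obtain ⟨g, hg, e⟩ := exists_map12' (n := 3) (by norm_num) ![zeroD.1, a.1, b.1]
        ![zeroD.1, a'.1, b'.1]
        (by
          intro i j h
          fin_cases i <;> fin_cases j <;> first | rfl | exact absurd (Subtype.ext h) (by first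
            | assumption | exact Ne.symm ha | exact Ne.symm hb | exact Ne.symm hab))
        (by
          intro i j h
          fin_cases i <;> fin_cases j <;> first | rfl | exact absurd (Subtype.ext h) (by first
            | assumption | exact Ne.symm ha' | exact Ne.symm hb' | exact Ne.symm hab'))
        (by intro i; fin_cases i; exacts [zeroD.2, a.2, b.2])
        (by intro i; fin_cases i; exacts [zeroD.2, a'.2, b'.2])
      exact ⟨⟨g, hg⟩, Subtype.ext (e 0), Subtype.ext (e 1), Subtype.ext (e 2)⟩)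
    (isPerfect_of_simple (by
      rw [Nat.card_congr zeroStabEquiv.toEquiv, card_M11]; norm_num))
    (Cfsg.Agent.Schur.hasSchurMultiplier_congr zeroStabEquiv.symm hasCyclicSchurMultiplier_M11)
  have : IsMulCommutative σ.ker :=
    ⟨⟨fun a b => Subtype.ext (Subgroup.mem_center_iff.1 (hσ.2.1 b.2) a.1)⟩⟩
  have hle : _root_.commutator pairStab ≤ θ.ker := Abelianization.commutator_subset_ker θ
  have e : Nat.card σ.ker = θ.ker.index := by
    rw [Subgroup.index_ker, MonoidHom.range_eq_top_of_surjective θ hθ, Subgroup.card_top]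
  rw [e]
  refine (Nat.le_of_dvd ?_ (Subgroup.index_dvd_of_le hle)).trans ?_
  · exact Nat.pos_of_ne_zero Subgroup.index_ne_zero_of_finite
  have h := Subgroup.card_mul_index (_root_.commutator pairStab)
  rw [card_pairStab] at h
  have := card_commutator_pairStab
  by_contra hlt
  push Not at hlt
  have := Nat.mul_le_mul this hlt
  omega

end Cfsg.Agent.Golay.Mult
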